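import Cfsg.Agent.H7.Mult3
import Cfsg.Agent.H7.Fus
import Cfsg.Agent.H7.Li.G24x

set_option autoImplicit false
set_option maxRecDepth 100000

universe u

open scoped Pointwise

namespace CfsgH7.J2mSylT

noncomputable def e0 : Tr := (Tr.node (Tr.node (Tr.node (Tr.leaf (nat_lit 0x18b803300c8a19080fe0000c403000bc203189be00080802e00b4405189fe0000b1429080861b00afe0000a820200a541f00a3e00009c0260094024080be000804023008861a1017e00008521d0804020007fe000078201007401c006fe0000680190060201005fe00080001600546091837e000050c100800013004be000044200004000f003be00003400c002c00a0803e000024008001c200001be000014004000c0020007e00)) (Tr.leaf (nat_lit 0x29ea674086c43a20f3e0069f021b61d083020cbe0039d267e086884001ffe0029d421a01f964201f7e00086407c01ecc2e308be00208883958e86710867e00086007a01e4a2d108fe0001e0218386523438a7e00208c82f38c18720863e00085c07701d8673106be004909235085c0754873e00310021748d40741083e0001cc07201c42177093e005115c6b71b02165133e004950215585965559abe002911e6e31bc2152937e00)))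 (Tr.node (Tr.leaf (nat_lit 0x717820e291ce516163e00203e4700834411392fe00204c20d01c0c143127e00083006f01b866d2943e0001b545b297020c718be00082c06c01ac669616be0001a820b48310482953e0001a5651294820b198fe00082985a294040d1993e0001a0653082840e019fe00019820a694da120197e0001900630189e43082be00291d26008246490187e0029282090180e4b017fe00082005e017465a3057e00205405c016c6440823e00)) (Tr.leaf (nat_lit 0x78cca4008b1e3e71efe0060f422c7101c3781e7e0008ae23689ce67d10b3e0078c9a4208a983f99f3e0068f022a7909a3879ebe0008a647661dd44151e3e0008a227378dac7f10abe00089a67981e9c7720c7e0089dcc3c50f422689c7e00089647ba9f267668efe0099d9e3278cc22589cbe00089223b28c442789cfe0099fde34089042889d3e0099f422478d1a2b89d7e0061c9e3738e022389dbe0048d0222408d67858dbe00)))) (Tr.node (Tr.node (Tr.leaf (nat_lit 0x1680590160208482fe00081c0570158650105be0001542074020054014fe0020580520145045081fe00014004f01382071033e00081804d01306461027e00012cc48081804a303fe0001242060120047104fe0001180450110206010fe002871841081461e010be0028802050104e210103e00081003f00f863b28b7e0028b403d00f06180813e0000ec03a00e42046097e00080c03800dc63118bbe0000d8203381003500d3e00))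 (Tr.leaf (nat_lit 0x29c683e80fc22229dfe0078be27d0885e7b68e3e0068e4221a1f547940ffe0068f882b0881a3358ebe0058dc22058ac43d48c3e00087d878689d62a1087e0041e5875087d63920f7e0069ec21f69d562f58cfe0060c207f087927c20dfe0020e821eb1fca7a78fbe000875a3188eda7e5107e00510547191c88290877e0069f9c25109821d58d7e0080fc828087043238e7e0048e021c60a103c30bfe00086c82761e082c107be00))) (Tr.node (Tr.leaf (nat_lit 0x794a25f085125d69b3e006170214997dc5681bfe0069b9667084ca59196fe0071ac213399ca4f3947e00084a4558191c661053e00295944a084985c193fe0071742122928c526167e0051450610845c5e71afe00516c2118184a5769bbe000841c6991b546091c3e0049c144451158530843e005182062818c2104123e0071be065083d8587173e0071b020f8194a4e194be0008388647154a681047e00695d047083945b293be00)) (Tr.leaf (nat_lit 0x918ea56795c24da9a7e00614c24ca1364706157e00918a65d817824c91b7e00713a866092e46c415fe00616024b8999a6f717be00313de680925c6b215be00396424991a1e6e4977e000921650696926a5183e00919d66a091885f79a3e00919424699aa061919be00213185859660620917e00313564e913e0630913e00090e46d91a6064111be006986254090e065591fe00317c2434952067112be0040d422d88ba63699fbe00)))))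

noncomputable def j0 : Tr := (Tr.node (Tr.node (Tr.node (Tr.leaf (nat_lit 0x8800000001600100002300000000000002002000042800a000000001c004000077000000600400080000000e0000000c00000100000001a40000000000000002000031000a000000000400c00004d0000006004000000000008c000000c00000000000000fc0000000000002000000018800a000000000400400002300000280040000000000038000000c000000000000005400000000000000020000070000000000000400000000700000000000000000000000)) (Tr.leaf (nat_lit 0x9000c00801600b8001228012001801002a01a000241800a0180020034000000460001400600000080000008b2002800000001f00300010f400c00a0010002002000214000a000000001c0140004130000006004000805c00080a005804c03c0010010000ff800500000000020060001f4801601b00200000040003e2001400601e00000200007b600000000000010150000f3400500c00100020060001d1804c0030138004004000387004800600400080080006f2))) (Tr.node (Tr.leaf (nat_lit 0x9000c0080010010000984005001801002000200011f001c00300000040040002370014000000000800800043600000ac00800100100007fc00500000000020020000f8800000301100040040001e3000004600400080080003aa0028060008007001000071c000001801001a0000000e0000000301480040000001b900000000000008008000364002800c008001000000065800500180000020000000c7800a000000000400c000173003000000000080080002bc))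 (Tr.leaf (nat_lit 0x2807000800d0010001d5000e001809c0020020003a6800a018018000400c00073100140460040068008000e00007000c0080150010001be400500c001000e00200036e800a02f002000400c0006b3001400600401a0018000cbe01700ac052001001000190c005001801000200600031a800a031014800400400061900140060040038008000c16002808c00800d001000181000500180b402a0020002fe802403101100040040005c5003800602d0008008000b52)))) (Tr.node (Tr.node (Tr.leaf (nat_lit 0x1010800055c005000000000200a0000a48000003011000000000013b002c00000000b0008000268000000000000100480004b4005000000000200600008f80000130020000004000118000000600000000200002220000000000001000000040c0050018010002000000077000a00300000040000000e70014000000000803c000196002800000000100100002d80000000000002017000057800a00000000040040000a100000060040000000000126)) (Tr.leaf (nat_lit 0x9000c04e001001000166c00500180100020280002c3001c003002000403200057f001404600400680a0000ab8002800c00801500c8001554005009801000e00600029c800a0030020034050000532001400600400a8064000a56008800c00800100b800142000e0018010002002000280800a014019000400c0004e5001400600401280080009a0002800c048001004800132400500e001003a00200025a005c00300200040320004ad00140300040038018000922)))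 (Tr.node (Tr.leaf (nat_lit 0x16000c0080010010000d9002600180c003e0020001ae800a003002000400400033a00140060040008068000666002800c0600010030000c5c00500d8010002002000188000a0030020080004000309001400600400080080005cc013000c0080010078000b7c005018801003e009000161800a00300200040040002ae0014006004000808400054e017000c0080010010000a4802e0018010002002000145800a02f002000400c00026f001400600400080080004d0)) (Tr.leaf (nat_lit 0x1600ac05200100480032a400e001801002a008000646805802b0148004012000c7f001404600400680a00018d4007000c05a015004000318c005011801001a01700060b001c0030168054010000c0f001403000400380180017e6002807000800d0010002e6000e001801002a0080005c8801802f01900cc004000b60002c05e032019800800166c002800c0080070030002c84005011801001a02800058d000a0030168054010000b13003800601e0008008000eee)))))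

noncomputable def R : RTr := (RTr.node (RTr.node (RTr.node (RTr.node (RTr.node (RTr.node (RTr.leaf ⟨false,28,[14],[],0,1,false⟩) (RTr.leaf ⟨false,14,[42,14,14,42,14],[],4,3,false⟩)) (RTr.node (RTr.leaf ⟨false,70,[28,70,28],[],3,0,true⟩) (RTr.leaf ⟨false,56,[14,42,28,56,28,56,14],[],7,2,true⟩))) (RTr.node (RTr.node (RTr.leaf ⟨false,14,[42,14,14,42,14],[],4,0,false⟩) (RTr.leaf ⟨false,42,[14,14,42,14,14],[],4,5,false⟩)) (RTr.leaf ⟨false,14,[42,14,56,28,42,28,42],[],7,2,false⟩))) (RTr.node (RTr.node (RTr.node (RTr.leaf ⟨false,70,[70],[],2,0,false⟩) (RTr.leaf ⟨false,28,[56,56,28,56,56,28,28],[],6,5,true⟩)) (RTr.leaf ⟨false,28,[42,14,42,14,56,28,42],[],7,4,false⟩)) (RTr.node (RTr.node (RTr.leaf ⟨false,28,[28,56,28,28,56],[],4,5,true⟩) (RTr.leaf ⟨false,42,[14,42,42,14,14,14,42],[],6,6,false⟩)) (RTr.leaf ⟨false,28,[56,14,56,14,42,28,56],[],7,5,true⟩)))) (RTr.node (RTr.node (RTr.node (RTr.node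 (RTr.leaf ⟨false,56,[42],[],1,1,false⟩) (RTr.leaf ⟨false,56,[28,28,28,56,56,28,56],[],6,0,true⟩)) (RTr.node (RTr.leaf ⟨false,56,[56,28,56,56,28,28,28],[],6,4,true⟩) (RTr.leaf ⟨false,28,[56,28,28,56,28],[],4,4,true⟩))) (RTr.node (RTr.node (RTr.leaf ⟨false,70,[28,70,28],[],3,2,true⟩) (RTr.leaf ⟨false,56,[28,42,28,42,14,42,14],[],7,7,false⟩)) (RTr.leaf ⟨false,56,[14,56,14,42,28,56,28],[],7,4,true⟩))) (RTr.node (RTr.node (RTr.node (RTr.leaf ⟨false,28,[70,28,70],[],3,3,true⟩) (RTr.leaf ⟨false,42,[70,14,42,70,14],[],5,5,false⟩)) (RTr.leaf ⟨false,14,[56,14,42,28,56,28,56],[],7,3,true⟩)) (RTr.node (RTr.node (RTr.leaf ⟨false,14,[70,14,70],[],3,0,false⟩) (RTr.leaf ⟨false,56,[28,28,56,28,28],[],4,0,true⟩)) (RTr.leaf ⟨false,28,[70,28,70],[],3,1,true⟩))))) (RTr.node (RTr.node (RTr.node (RTr.node (RTr.node (RTr.leaf ⟨false,14,[28],[],0,0,false⟩) (RTr.leaf ⟨false,42,[42,14,42,42,14,14,14],[],6,7,false⟩))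 (RTr.node (RTr.leaf ⟨false,70,[14,70,14],[],3,1,false⟩) (RTr.leaf ⟨false,42,[14,42,14,56,28,42,28],[],7,3,false⟩))) (RTr.node (RTr.node (RTr.leaf ⟨false,14,[42,70,14,42,70],[],5,0,false⟩) (RTr.leaf ⟨false,14,[14,42,42,14,42,42,14],[],6,1,false⟩)) (RTr.leaf ⟨false,14,[14,42,14,14,42],[],4,1,false⟩))) (RTr.node (RTr.node (RTr.node (RTr.leaf ⟨false,14,[70,14,70],[],3,2,false⟩) (RTr.leaf ⟨false,70,[14,42,70,14,42],[],5,1,false⟩)) (RTr.leaf ⟨false,28,[42,28,42,14,42,14,56],[],7,6,false⟩)) (RTr.node (RTr.node (RTr.leaf ⟨false,70,[14,42,70,14,42],[],5,4,false⟩) (RTr.leaf ⟨false,70,[56,28,70,56,28],[],5,1,true⟩)) (RTr.leaf ⟨false,42,[14,14,14,42,42,14,42],[],6,3,false⟩)))) (RTr.node (RTr.node (RTr.node (RTr.node (RTr.leaf ⟨false,42,[56],[],1,0,false⟩) (RTr.leaf ⟨false,42,[42,14,14,14,42,42,14],[],6,4,false⟩)) (RTr.node (RTr.leaf ⟨false,56,[56,28,28,28,56,56,28],[],6,1,true⟩) (RTr.leaf ⟨false,28,[56,28,28,56,28],[],4,1,true⟩)))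 (RTr.node (RTr.node (RTr.leaf ⟨false,70,[56,28,70,56,28],[],5,4,true⟩) (RTr.leaf ⟨false,70,[14,70,14],[],3,3,false⟩)) (RTr.leaf ⟨false,56,[28,56,56,28,28,28,56],[],6,3,true⟩))) (RTr.node (RTr.node (RTr.node (RTr.leaf ⟨false,14,[14,42,14,14,42],[],4,4,false⟩) (RTr.leaf ⟨false,14,[42,28,56,28,56,14,56],[],7,1,true⟩)) (RTr.leaf ⟨false,56,[28,70,56,28,70],[],5,0,true⟩)) (RTr.node (RTr.node (RTr.leaf ⟨false,28,[70,56,28,70,56],[],5,5,true⟩) (RTr.leaf ⟨false,42,[28,42,14,42,14,56,28],[],7,5,false⟩)) (RTr.leaf ⟨false,28,[28,56,28,28,56],[],4,2,true⟩))))))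

noncomputable def D : TCD where
  N := nat_lit 128
  E := e0
  lb := nat_lit 4
  lm := nat_lit 15
  rw := nat_lit 84
  em := nat_lit 16383
  vm := nat_lit 511
  fl := nat_lit 256
  wv := nat_lit 9
  inf := nat_lit 15872
  J := j0
  jw := nat_lit 13
  jm := nat_lit 8191
  jr := nat_lit 91
  pk := nat_lit 84
  nr := nat_lit 52
  R := R
  cols := [(nat_lit 14,nat_lit 26),(nat_lit 28,nat_lit 39),(nat_lit 42,nat_lit 52),(nat_lit 56,nat_lit 65),(nat_lit 70,nat_lit 78)]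
  j0 := nat_lit 13
  big := nat_lit 1000000000

def cl : List (Nat × Nat) := [(14,0),(28,1),(42,2),(56,3),(70,4)]
def invs : List Nat := [2]
def rels : List (List Nat) := [[0,1],[2,3],[4,5],[0,4,0,4],[0,0,2,0,0,2],[0,4,2,0,4,2],[0,0,0,2,2,0,2,2],[0,2,0,2,1,2,1,3]]
def subs : List (List Nat) := []
def W0 : List (List Nat) := [[0],[2],[4]]

theorem c0 : Nat.beq (nsum2 D.val 0 2 64) 128 = true := by decide +kernel

theorem pre : tcPre D cl invs rels subs W0 128 128 = true := by decide +kernel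

theorem u0 : Upto D.val 0 0 := Upto.zero _
theorem u1 : Upto D.val 128 128 := u0.step c0 (by decide) (by decide)

theorem relIndex {G : Type*} [Group G] (g : Nat → G) (K : Subgroup G) (hinv : ∀ k ∈ invs, g k * g k = 1)
    (hrel : ∀ r ∈ rels, wprod g r = 1) (hsub : ∀ h ∈ subs, wprod g h ∈ K) :
    K.relIndex (genW g W0) ≠ 0 ∧ K.relIndex (genW g W0) ≤ 128 :=
  tc_relIndex g K D cl invs rels subs W0 _ _ hinv hrel hsub pre u1

end CfsgH7.J2mSylT

namespace CfsgH7.J2mSyl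

def R : List (List Nat) := [[4,4],[0,4,0,4],[0,0,2,0,0,2],[0,4,2,0,4,2],[0,0,0,2,2,0,2,2],[0,2,0,2,1,2,1,3]]
def S : List (List Nat) := []
theorem p2 : P2.{u} 3 R S 128 := fun _ _ g K hs hS =>
  have hf := hs.follows (invs := J2mSylT.invs) (rels := J2mSylT.rels) (by decide +kernel)
  J2mSylT.relIndex g K hf.1 hf.2 hS
noncomputable def Rf : List (List Nat) := R ++ ([]).map (substW S)
theorem pr : Pr.{u} 3 Rf 128 := Pr.step (S := S) p2 Pr.nil

end CfsgH7.J2mSyl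

namespace CfsgH7.J2m.Fu

open CfsgH7.J2m

def SW : List (List Nat) := [[2,1,1,4,0,3,0,2,1,1,4],[2,1,3,1,4,2,0,4,1,1,4,1],[1,1,4,3,0,3,4,1,2,0,3]]
def RV : List (List Nat) := [[4],[0,0],[2,2],[3,4,3]]
def zv : List Nat := [0,0,0,0]
theorem hS : Nat.card (genW g0 SW) = 2 ^ 7 :=
  M0.pcard (U := SW) J2mSyl.pr (by decide +kernel) (M0.ge SW [⟨0, [[0],[2]], [0,0,1,0,1,0,0], 16⟩,
  ⟨1, [[2],[0,3,4]], [0,0,0,1], 8⟩] 7 (by decide +kernel))
def crC : List Lvl := [⟨10, [[0],[2],[4]], [0,1,2,0,1,0,2,1,0,2,0], 100⟩,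
  ⟨97, [[0,0,4,1],[0,3,1,3]], [0,1,0,1,0,1,0,0,1,0,0,0,0], 63⟩,
  ⟨11, [[3,1,2,0,2],[0,0,4,0,0,2,0,3]], [0,1,0,1,1,0], 12⟩,
  ⟨18, [[3,1,2,2,0,2]], [0], 2⟩,
  ⟨32, [[1,2,2,1,2,0,4,0,2,2,0]], [0], 2⟩,
  ⟨0, [[2,1,3,4,1,4]], [0], 2⟩]
def crM : List (List Nat) := [[],
  [0x1120208000000206002210800],
  [0x1000000000000040000],
  [0x100080000],
  [0x4001],
  [0x1000000000000000, 0x80000000000, 0x8000000000000000000000000]]
def crZ : List Nat := [0xfffffffffffffffffffffffff]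
theorem crL : LvOk G0 (finPt 100) 100 [] (mkLV crC crM) := M0.lvOk crC 7 crM (by decide +kernel) (by decide +kernel)
noncomputable def hrT : Bt := (.br 0 [] [] (Bt.ofL [(10, [], (.step 0 4 [] (.br 0 [] [] (Bt.ofL [(11, [], (.br 0 [] [] (Bt.ofL [(18, [], (.br 0 [] [] (Bt.ofL [(32, [], (.br 0 [[0]] [0] (Bt.ofL [(0, [], (.leaf 0))]))),
 (19, [1,2,2,1,2,0,4,0,2,2,0], (.br 0 [] [] .nil))]))),
 (72, [3,1,2,2,0,2], (.br 0 [] [] (Bt.ofL [(32, [], (.br 0 [] [] .nil)),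
 (19, [1,2,2,1,2,0,4,0,2,2,0], (.br 0 [[0]] [0] (Bt.deads [[14,0,0,0]] .nil)))])))]))),
 (96, [3,1,2,0,2,1,2,2,1,2,0,4,0,2,2,0,3,1,2,0,2], (.br 0 [] [] (Bt.ofL [(18, [], (.br 0 [] [] (Bt.ofL [(19, [], (.br 0 [] [] .nil)),
 (32, [1,2,2,1,2,0,4,0,2,2,0], (.br 0 [[0]] [0] (Bt.deads [[7,0,4,1]] .nil)))]))),
 (72, [3,1,2,2,0,2], (.br 0 [] [] (Bt.ofL [(19, [], (.br 0 [[0]] [0] (Bt.deads [[99,0,0,0]] .nil))),
 (32, [1,2,2,1,2,0,4,0,2,2,0], (.br 0 [] [] .nil))])))])))])))),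
 (97, [4,0,3], (.step 0 4 [] (.br 0 [] [] (Bt.ofL [(11, [], (.br 0 [] [] (Bt.ofL [(72, [], (.br 0 [] [] (Bt.ofL [(32, [], (.br 0 [[0]] [0] (Bt.deads [[80,0,1,2]] .nil))),
 (19, [1,2,2,1,2,0,4,0,2,2,0], (.br 0 [] [] .nil))]))),
 (18, [3,1,2,2,0,2], (.br 0 [] [] (Bt.ofL [(32, [], (.br 0 [] [] .nil)),
 (19, [1,2,2,1,2,0,4,0,2,2,0], (.br 0 [[0]] [0] (Bt.deads [[84,0,0,0]] .nil)))])))]))),
 (96, [3,1,2,0,2,1,2,2,1,2,0,4,0,2,2,0,3,1,2,0,2], (.br 0 [] [] (Bt.ofL [(72, [], (.br 0 [] [] (Bt.ofL [(19, [], (.br 0 [] [] .nil)),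
 (32, [1,2,2,1,2,0,4,0,2,2,0], (.br 0 [[0]] [0] (Bt.deads [[54,0,1,2]] .nil)))]))),
 (18, [3,1,2,2,0,2], (.br 0 [] [] (Bt.ofL [(19, [], (.br 0 [[0]] [0] (Bt.deads [[39,0,0,0]] .nil))),
 (32, [1,2,2,1,2,0,4,0,2,2,0], (.br 0 [] [] .nil))])))])))]))))]))
theorem hr : Subgroup.centralizer {z | ∃ w ∈ RV.map (substW SW), wprod g0 w = z} = genW g0 [substW SW zv] :=
  M0.cen crL _ [[0],[2],[2,2],[4],[6],[6,6],[2,2,2],[3],[6,6,6],[7],[0,2],[0,4],[0,6],[2,0],[2,4],[2,6],[4,0],[4,2],[4,6],[6,0],[6,2],[6,4]] _ 6 7 crZ hrT (by decide +kernel) (by decide +kernel)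
def czC : List Lvl := [⟨60, [[0],[2],[4]], [0,1,0,0,2,1,0,1,2,0,2,0], 100⟩,
  ⟨61, [[2,2],[0,2,4],[1,1,2,1,4]], [0,1,0,1,0,2,1,0,1,0,1], 63⟩,
  ⟨25, [[0,4,0,0,2,0,2],[0,3,1,2,0,2,1,3]], [0,1,0,1,0], 6⟩,
  ⟨95, [[0,2,2,0,2,1,1,4]], [0,0,0], 4⟩,
  ⟨9, [[2,4,1,1,2,1,4,1,4,1,4],[0,2,0,3,4,1,1,2,1,4,0,2]], [0,1], 4⟩]
def czM : List (List Nat) := [[],
  [0x20000000100000002200c00],
  [0x800000000000000000400044],
  [],
  []]
def czZ : List Nat := [0xfffffffffffffffffffffffff]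
theorem czL : LvOk G0 (finPt 100) 100 [] (mkLV czC czM) := M0.lvOk czC 7 czM (by decide +kernel) (by decide +kernel)
noncomputable def hzT : Bt := (.br 0 [[0],[2],[4]] [0,1,2,0,1,0,2,1,0] (Bt.ofL [(60, [], (.step 0 0 [] (.br 0 [[1,2,0],[2,4,0]] [0,1] (Bt.ofL [(25, [], (.br 0 [[1,2,0]] [0,0,0] (Bt.ofL [(95, [], (.step 0 0 [] (.leaf 0)))]))),
 (10, [2,0,3,1,3,0,2,1], (.br 0 [[1,2,2,0],[2,4,2,0]] [0,1] (Bt.ofL [(8, [], (.step 0 0 [3,1,4,0,3,0,0,4,2,1,3,1] (.leaf 1)))]))),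
 (21, [0,4,0,0,2,0,2], (.br 0 [[2,4,0]] [0,0,0] (Bt.ofL [(24, [], (.step 0 0 [3,1,4,0,3,0,0,4,2,1,3,1] (.leaf 2)))])))])))),
 (42, [2,2,1,2], (.step 0 0 [0,4,0,0,2,0,2,4,0,3,0,0,0,2,4] (.br 0 [] [] (Bt.ofL [(32, [], (.br 0 [[4,0,0]] [0] (Bt.ofL [(9, [], (.step 0 0 [0,2,0,3,4,1,1,2,1,4,0,2] (.leaf 3))),
 (36, [0,2,2,0,2,1,1,4], (.step 0 0 [] (.leaf 4)))]))),
 (89, [2,0,3,1,3,0,2,1], (.br 0 [[4,0,0]] [0] (Bt.ofL [(13, [], (.step 0 0 [] (.leaf 5))),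
 (55, [0,2,2,0,2,1,1,4], (.step 0 0 [3,1,4,0,3,0,0,4,2,1,3,1] (.leaf 6)))]))),
 (10, [0,3,1,2,0,2,1,3,0,3,1,2,0,2,1,3], (.br 0 [[4,0,0]] [0] (Bt.ofL [(84, [], (.step 0 0 [3,1,4,0,3,0,0,4,2,1,3,1] (.leaf 7))),
 (66, [0,2,2,0,2,1,1,4], (.step 0 0 [2,4,1,1,2,1,4,1,4,1,4] (.leaf 8)))]))),
 (96, [0,4,0,0,2,0,2], (.br 0 [[4,0,0]] [0] (Bt.ofL [(7, [], (.step 0 0 [] (.leaf 9))),
 (28, [0,2,2,0,2,1,1,4], (.step 0 0 [3,1,4,0,3,0,0,4,2,1,3,1] (.leaf 10)))]))),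
 (45, [0,3,1,2,0,2,1,3], (.br 0 [[4,0,0]] [0] (Bt.ofL [(91, [], (.step 0 0 [2,4,1,1,2,1,4,1,4,1,4] (.leaf 11))),
 (24, [0,2,2,0,2,1,1,4], (.step 0 0 [0,2,0,3,4,1,1,2,1,4,0,2] (.leaf 12)))]))),
 (37, [2,4,1,1,2,1,4,1,4,1,4,0,4,0,0,2,0,2], (.br 0 [[4,0,0]] [0] (Bt.ofL [(67, [], (.step 0 0 [2,4,1,1,2,1,4,1,4,1,4] (.leaf 13))),
 (1, [0,2,2,0,2,1,1,4], (.step 0 0 [0,2,0,3,4,1,1,2,1,4,0,2] (.leaf 14)))])))]))))]))
def hzU : List (List Nat) := [[],[0,4,3,1,1,1,4,0,0,0,2,1],[3,0,2,0,4,0,4,1,3,0,4,0,3,1,1,1,4,0,0,0,2,4,1,4,1,2,0,4,1,4,1,3,1,2],[0,3,1,1,1,4,0,0,0,2,2,0,0,2,0,4,0,2,1,2,0,4,0,4,1,3,0,4,0,4,2,0,0,2,0,4,0,2,1,1,2,0,4,3,1,1,1,4,0,0,0,2,1],[0,4,2,0,0,2,0,4,0,2,1,1,2,2,1,2,0,3,4,1,2,2,1,2,0,3,1,1,1,4,0,0,0,2,2,0,0,2,0,4,0,2,1,1,2,0,3,1,1,1,4,0,0,0,2,4,1],[0,3,1,1,1,4,0,0,0,2,2,0,0,2,0,4,0,2,1,2,0,4,0,4,1,3,0,4,0,4,2,0,0,2,0,4,0,2,1,2,0,4,0,4,1,3,0,4],[0,3,1,1,1,4,0,0,0,2,2,0,0,2,0,4,0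,2,1,2,0,4,0,4,1,3,0,4,0,4,2,0,0,2,0,4,0,2,1,1,2],[2,1,2,0,3,4,1,2,2,1,2,2,1,2,0,3,4,1,2,2,2,0,4,0,4,1,3,0,4,0,4,2,0,0,2,0,4,0,2,1,1,2,4,1,2,0,4,1,4,1,3,1,2],[0,4,3,1,1,1,4,0,0,0,2,4,2,0,0,2,0,4,0,2,1,1,2,0,3,1,1,1,4,0,0,0,2,4,1,3,0,3,3,0,4,2,1,3,0,3,3,0,2,0,4,0,4,1,3,0,4],[0,4,3,1,1,1,4,0,0,0,2,1,2,1,2,0,3,4,1,2,2,1,2,0,4,2,0,0,2,0,4,0,2,1,2,0,4,0,4,1,3,0,0,3,4,0,3],[0,4,3,1,1,1,4,0,0,0,2,1,2,1,2,0,3,4,1,2,2,1,2,0,4,2,0,0,2,0,4,0,2,1,1,2,4,0,3,4,0,3],[0,4,3,1,1,1,4,0,0,0,2,4,2,0,0,2,0,4,0,2,1,2,0,4,0,4,1,3,0,4,2,1,2,0,3,4,1,2,2,1,2,4,0,3,4,0,3],[0,4,3,1,1,1,4,0,0,0,2,4,2,0,0,2,0,4,0,2,1,1,2,4,1,2,0,4,1,4,1,3,1,2,2,1,2,0,3,4,1,2,2,2,0,4,0,4,1,3,0,4],[0,4,2,0,0,2,0,4,0,2,1,1,2,2,1,2,0,3,4,1,2,2,1,2,0,3,1,1,1,4,0,0,0,2,2,0,0,2,0,4,0,2,1,1,2],[0,4,2,0,0,2,0,4,0,2,1,1,2,2,1,2,0,3,4,1,2,2,1,2,0,3,1,1,1,4,0,0,0,2,2,0,0,2,0,4,0,2,1,1,2,4,1,2,0,4,1,4,1,3,1,2]]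
theorem hz : ∀ c : G0, (∀ i, c * wprod g0 (wordAt [substW SW zv] i) = wprod g0 (wordAt [substW SW zv] i) * c) →
    ∃ κ ∈ genW g0 SW, ∃ u ∈ hzU, c = κ * wprod g0 u :=
  M0.srch czL _ _ [[0]] _ _ 1 7 czZ hzT (by decide +kernel) (by decide +kernel)
theorem fus0 : FusG G0 :=
  M0.fus SW RV [[0,4,2,0,0,2,0,4,0,2,1,1,2]] hzU zv [2,2] 7 3
    [[[2,0],[0],[3,4,2]], [[2,2],[2],[3,4,3,0,0]], [[1,2],[0],[1,2,2,0]], [[1,3],[2,0],[3,4,3,0]], [[1,1,2],[8],[4]], [[1,3],[4,0],[4,0,3]], [[],[10,5],[0]], [[],[10,3,0],[2]]]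
    [[[2,0],[2],[0,4,0],[7,4,2]], [[7,4],[4,3],[4],[0,4]], [[0],[3],[0,4,0],[6]], [[4],[6,4,2],[0],[6,4,0]]]
    [[[0],[]], [[0],[2,6,0,6,1,2,6]], [[0],[6,1,3,6,0,6,0]], [[1,1],[4,2],[0]], [[1,1],[2],[0]], [[1,1],[0],[0]], [[1,1],[0],[4,0]], [[1,1],[2],[0]], [[1,1],[2,4],[0]], [[1,1],[2,0],[0]], [[1,1],[2,1],[0]], [[1,1],[1,2],[2]], [[1,1],[1,2],[2]], [[1,1],[2],[2]], [[1,1],[2],[2]]]
    hS (by norm_num) hr hz (by decide +kernel) (by decide +kernel) (by decide +kernel)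

end CfsgH7.J2m.Fu

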