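import Cfsg.Agent.H7.Mult3
import Cfsg.Agent.H7.Fus
import Cfsg.Agent.H7.Lee.Sub

set_option autoImplicit false
set_option maxRecDepth 100000

universe u

namespace CfsgH7.McLSylT

noncomputable def e0 : Tr := (Tr.node (Tr.node (Tr.node (Tr.leaf (nat_lit 0xc6608083170034245650b3f000202006600c8318aa274c51f80001880301c420809101a21dfc0000bc01702021c48101050f7e000c540804311002d005800aff000201005400a43130028004ff800013002500480804c0e8403fc00008c0110201004218786027e000040007c00f001d0402900bf0006190400184400e001b0035f80010000190030185400b8016fc00005400a0013040038203067e000024004410000100c129037f00000f001c003400622070401f800005800a001200201000007fc000018002800400060008000fe00)) (Tr.leaf (nat_lit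 0xf201e0814021f2852a8cbf000677043c107d3138c31544df80010f007700eca0ac61a282dfc0019d010e883b00ea908c417fe00043a01d16248420406cb0dff0044700438b171a39b46c60bff801f2dc25c0438a92d4353259fc00494810dae6d84c6f96cb2efe003cb008695303c6e70baa96ff00081c88e1019010c8c6814adf80072b966a34d629587280219fc00f9a5b2cba5a74d00865b287e0064a6086020cb6656cb4a1aff0002185ca6c9c882e326f94cff802333021754bf299ca2f2a5cfc00085e3334a689cd6a192532fe00))) (Tr.node (Tr.leaf (nat_lit 0xcd0083092c00691498484bf00020c00d0b1982078a535ca9f8000338a63041601995269014fc000194209881414a6483c105fe0000c89841326aa540416403ff00020a0816018c330006200c3f800030005f502e082950c124ffc00017802e8615249ea0381057e0000b8016d4270a180414a03bf00065a0412102950b284e202bf800104805a00b270697289c1cfc00606802c100c04126040a09fe000cac0820329005720248933f00020800ac0154205805400a7f80080d8052041030348099810fc001940103864b00a2706940dfe00))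 (Tr.leaf (nat_lit 0x64fa08d211fb67e5cf0c10bf00083454fae91c119a6741873f80181b02320866b12161e9277fc0008c961b367f187ec1edb257e00046010c662018454c86a9e7f00144530fcc0dc11832384c93f80203fbc44045e89f091a983bfc0008b8217b8449080f1e85237e0098f808b6420d07f988531e3f004840888208b5517103c64edf80041d822c688731ea4202e3efc0098d41159679848cf8f95207e00105b11f2024022a887311d3f000e751078e0f453a32330455f80021d2a765cee28e41150a33fc00b8dc114842a508ec9dc81efe00)))) (Tr.node (Tr.node (Tr.leaf (nat_lit 0x40e0140027864e542c405ff00004e009a4040103880c0811f800026004b040e104d0069609fc0001285230206009278952187e00009038849180a365440081bf0000473448689581b82063441f8001028406008c190c0228044fc00010c0210c27040ab8c9414fe0000820100318a6291c3e0817f00003f007cb0985190205503ff80031e8204080a20a07132431fc00081001e803c0c5838b491a7e000c5800ec30e82042c483887f000639040618d401d102f2447f80010180390070101801b8036fc0090ac01a82031c3c6884b127e00))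 (Tr.leaf (nat_lit 0x452a8dd93f28415c94d9eff003638045059e1d3da83f2483f80011436386c7228f4a243647fc0101241138e425494a10471ffe00044ef12603a4477508f0123f000225084cb8f9c222c796887f801a22007f606c0895a24ae38fc000890e23ac7d205e60e8a3afe0000fc3114111807d4c7670d7f00022208462115d1f0c4688f5f801f1f3e3f1868088893b303cfc0059e0d3ca82b5878c0b81117e006084c10c4162c76044430bbf000221209001f0211ae752875f80003d8a7a044070e14182c25fc00087c210007a0cf2e110822fe00))) (Tr.node (Tr.leaf (nat_lit 0x80aa0858736446f20b8a97bf00021678aaf15962d2c6580c9f80010a041518bae9889302e6dfc002988039ae540428b9549337e00042629956388a4c34d2a15ff0000720cc20848038925234b1f800108841210c2e1747374263fc00d175c2f1e510422c165a357e0058bec18170d326a5c960847f002e6c64da206d92c82113c97f800108286400e01048f2b9469fc0001bc537020f1caa4050726fe00041c103c037066d18c2c18bf00006d00d820581072c4f5831f800335820d081c205d30a8e4efc000834035806a20369871328fe00))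 (Tr.leaf (nat_lit 0x4b2f9a6733b46c84e6e1cbf00166a04aed1bd82fac7268e7f801437306f04aea9610385071fc01098e533a06904a541c57387e0044e20945c2f2c7268beb9b3f0008513ce32994128425674d1f800c2a024f08a05191435aa5afc00093ca2a307328bd299d837fe00049a113a12dac6120dac183f00286158e4a94c126b06620abf801a398c62049891c092c2c52fc00092c22608627cb7098d2377e000478c9d59252e786cfd11fff002a760474b9ed8213a7f5cfdf80103d247b0474a8ee93ece7cfc01091a1252675046ac1f113efe00)))))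

noncomputable def j0 : Tr := (Tr.node (Tr.node (Tr.node (Tr.leaf (nat_lit 0x14006000c0000004002000012c001400000000040004007000011d0000000000c0040088002000010e0000000000c010002000200000ff0014006000c000000000000000c300140000000004000000000000b400000000000004000400700000a50000000000c000000401d000009600000000000000000400200000780014006000c0000000000000005a001400000000040000000000004b000000000000040004002000003c0000000000c0000004002000002d000000000000000060002000001e000000000000000004000000000f0000000000000000000000000000)) (Tr.leaf (nat_lit 0x6400400040070000cf300140060028010005c0020000ca80014000000000400580070000c990014006002800000040150000c3f0014000000c00900040200000c300014006000c004005c0020000bd60014006000c024000401a0000ba90014006000c004005c0020000b6d0014006000c00400040020000b0400500060048004000401a0000a7d0014006000c004009c0020000a5f0014006000c00400040150000a500014006002800400040020000a320014023000c004000401a0000a230014006000c004000400200009c9001402f000c004009c00200009ba)))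 (Tr.node (Tr.leaf (nat_lit 0x14006000c000000400200005460014000000c009005801b00005370000006000c000000400200004b0000000e000c004006000200004a100000060028004000401b0000492001400b0000004000000000004650000000000c004000401a00004560000000003c004000400200004380000000000c010000402000004290014006002801e0060002000040b00140000000004000400700003fc0084000000c004000401f00003ed0014006000c000005c01500003a200140000000009000000000003930014000000c00c000402000003750014006000c00000040070000339)) (Tr.leaf (nat_lit 0x140060028004005c01500015ae005000600480040004007000152700a00060028029005c00200014dc0014023000c009000400200014cd001400b0070009005800200013fb00940060048004003400700013ec0014026000c004002001f0001374001400b0070009000401d000132900140060028004000400200012cf001402e000c00c002000200012a200a00060028004005c002000126600a0006000c004005c00200011fd0050006004800400040020001176001400e00b40040004002000115800a8006000c004000402c000114900a000600280290004015000112b))))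 (Tr.node (Tr.node (Tr.leaf (nat_lit 0x1400000000040004002000032a0000000000c0040034007000031b0000000000c00c005c007000030c0000006000c000000401f00002a3000000e000c004000400200002940000006002800400040150000285001400b0000004000000000002580000000000c004000402000002490000000003c00c0060002000022b0000000000c004000401b000021c00140060028004005c01500001fe00140000000011005800200001ef0014000000c004000400700001e00014006000c000005c002000019500140000000009000000000001860094000000c01e00040200000168)) (Tr.leaf (nat_lit 0x14023000c0090058002000111c00a0006000c004005c01500010c200140060028009009c01500010b300a00060028029005c01500010590014023000c004009c002000104a001400b000c009000401d0000f780084000004800400040070000f69001400b000c00900580020000f0f0000026000c000002001f0000e88001400b007000c00040020000e3d001400b006400400040020000e2e0014006003c02400040020000e10001400b004c00400040020000e01001400b000000900040020000dd40000006000c00c00040200000d4d001400b000000400040020000d02)))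 (Tr.node (Tr.leaf (nat_lit 0x14006000c004000400200009600014026000c011009c0020000951001400b000c0040004002000087f0014000000c004002000200008700014006000c004000400200008160000006000c0000060002000078f001400b00ac004000401a00007440084006000c004000400200007350014006004c004000400200007170014006004c004000401b000070800140060000009000400200006db0000006000c00400340020000654001400b00000040004015000060900000000048004000402000005fa00140060028004000400200005af00140000000009000401b00005a0)) (Tr.leaf (nat_lit 0x1400b0070009005801d00024cc00a00060028029005c015000240900c802e000c00c002002000023dc00500300048004000400700021de00a00060028029005c0150002193005003000480040034007000210c00a00060028029005c01500020c10014023000c009005800200020b2001400b0070009005801d0001fe00094006004800400340070001fd10014026000c00c00200200001f59001400b0070009005801d0001f0e00140230070011000400200018e700c4006000c029000400200018240014006000c01e000401500017f70050030000c004000400200015f9)))))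

noncomputable def R : RTr := (RTr.node (RTr.node (RTr.node (RTr.node (RTr.node (RTr.node (RTr.leaf ⟨false,30,[15],[],0,1,false⟩) (RTr.leaf ⟨false,90,[30,75,45,45,15],[],7,5,false⟩)) (RTr.node (RTr.leaf ⟨false,45,[75,45,75],[],4,0,false⟩) (RTr.leaf ⟨false,90,[90,90,90],[],5,0,true⟩))) (RTr.node (RTr.node (RTr.leaf ⟨false,45,[75,45,75],[],4,2,false⟩) (RTr.leaf ⟨false,45,[75,30,90,90,30,45,90],[],8,4,true⟩)) (RTr.leaf ⟨false,60,[60,60,30,30,60],[],6,2,true⟩))) (RTr.node (RTr.node (RTr.node (RTr.leaf ⟨false,90,[75],[],2,1,false⟩) (RTr.leaf ⟨false,90,[15,75,30,60,60],[],7,2,true⟩)) (RTr.leaf ⟨false,15,[75,30,60,60,90],[],7,1,true⟩)) (RTr.node (RTr.node (RTr.leaf ⟨false,30,[30,60,60,60,60],[],6,5,true⟩)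 (RTr.leaf ⟨false,60,[60,60,60,30,30],[],6,3,true⟩)) (RTr.leaf ⟨false,15,[90,60,75,60,15,75,75],[],8,5,false⟩)))) (RTr.node (RTr.node (RTr.node (RTr.node (RTr.leaf ⟨false,60,[45],[],1,1,false⟩) (RTr.leaf ⟨false,75,[15,90,60,75,60,15,75],[],8,6,false⟩)) (RTr.leaf ⟨false,60,[15,60,15],[],3,3,false⟩)) (RTr.node (RTr.node (RTr.leaf ⟨false,75,[75,75,75],[],5,2,false⟩) (RTr.leaf ⟨false,60,[90,60,90],[],4,1,true⟩)) (RTr.leaf ⟨false,15,[45,45,45,45,15],[],6,0,false⟩))) (RTr.node (RTr.node (RTr.node (RTr.leaf ⟨false,15,[60,15,60],[],3,2,false⟩) (RTr.leaf ⟨false,30,[90,90,30,45,90,45,75],[],8,2,true⟩)) (RTr.leaf ⟨false,30,[75,45,45,15,90],[],7,4,false⟩)) (RTr.node (RTr.node (RTr.leaf ⟨false,60,[60,90,15,75,30],[],7,4,true⟩)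 (RTr.leaf ⟨false,75,[75,75,75],[],5,0,false⟩)) (RTr.leaf ⟨false,15,[90,30,75,45,45],[],7,0,false⟩))))) (RTr.node (RTr.node (RTr.node (RTr.node (RTr.node (RTr.leaf ⟨false,15,[30],[],0,0,false⟩) (RTr.leaf ⟨false,30,[60,60,60,60,30],[],6,4,true⟩)) (RTr.node (RTr.leaf ⟨false,60,[30,30,60,60,60],[],6,0,true⟩) (RTr.leaf ⟨false,90,[45,75,30,90,90,30,45],[],8,5,true⟩))) (RTr.node (RTr.node (RTr.leaf ⟨false,60,[90,60,90],[],4,3,true⟩) (RTr.leaf ⟨false,90,[60,75,60,15,75,75,15],[],8,4,false⟩)) (RTr.leaf ⟨false,15,[60,15,60],[],3,0,false⟩))) (RTr.node (RTr.node (RTr.node (RTr.leaf ⟨false,75,[90],[],2,0,false⟩) (RTr.leaf ⟨false,75,[45,75,45],[],4,3,false⟩)) (RTr.leaf ⟨false,30,[60,60,90,15,75],[],7,5,true⟩))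 (RTr.node (RTr.node (RTr.leaf ⟨false,75,[45,45,15,90,30],[],7,3,false⟩) (RTr.leaf ⟨false,75,[30,90,90,30,45,90,45],[],8,3,true⟩)) (RTr.leaf ⟨false,45,[15,15,45,45,45],[],6,2,false⟩)))) (RTr.node (RTr.node (RTr.node (RTr.node (RTr.leaf ⟨false,45,[60],[],1,0,false⟩) (RTr.leaf ⟨false,45,[45,15,15,45,45],[],6,3,false⟩)) (RTr.leaf ⟨false,90,[60,90,60],[],4,2,true⟩)) (RTr.node (RTr.node (RTr.leaf ⟨false,45,[45,45,15,15,45],[],6,4,false⟩) (RTr.leaf ⟨false,15,[75,75,15,90,60,75,60],[],8,0,false⟩)) (RTr.leaf ⟨false,60,[15,75,75,15,90,60,75],[],8,1,false⟩))) (RTr.node (RTr.node (RTr.node (RTr.leaf ⟨false,30,[45,30,45],[],3,3,true⟩) (RTr.leaf ⟨false,90,[90,90,90],[],5,2,true⟩)) (RTr.leaf ⟨false,30,[45,30,45],[],3,1,true⟩))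 (RTr.node (RTr.node (RTr.leaf ⟨false,45,[45,45,45,15,15],[],6,5,false⟩) (RTr.leaf ⟨false,75,[60,15,75,75,15,90,60],[],8,2,false⟩)) (RTr.leaf ⟨false,15,[15,45,45,45,45],[],6,1,false⟩))))))

noncomputable def D : TCD where
  N := nat_lit 128
  E := e0
  lb := nat_lit 4
  lm := nat_lit 15
  rw := nat_lit 105
  em := nat_lit 32767
  vm := nat_lit 511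
  fl := nat_lit 256
  wv := nat_lit 9
  inf := nat_lit 32256
  J := j0
  jw := nat_lit 14
  jm := nat_lit 16383
  jr := nat_lit 112
  pk := nat_lit 105
  nr := nat_lit 50
  R := R
  cols := [(nat_lit 15,nat_lit 28),(nat_lit 30,nat_lit 42),(nat_lit 45,nat_lit 56),(nat_lit 60,nat_lit 70),(nat_lit 75,nat_lit 84),(nat_lit 90,nat_lit 98)]
  j0 := nat_lit 14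
  big := nat_lit 1000000000

def cl : List (Nat × Nat) := [(15,0),(30,1),(45,2),(60,3),(75,4),(90,5)]
def invs : List Nat := []
def rels : List (List Nat) := [[0,1],[2,3],[4,5],[0,3,0,3],[2,4,2,4],[4,4,4,4],[0,0,2,2,2,2],[0,2,2,4,1,5],[0,3,4,3,5,0,4,4]]
def subs : List (List Nat) := []
def W0 : List (List Nat) := [[0],[2],[4]]

theorem c0 : Nat.beq (nsum2 D.val 0 2 64) 128 = true := by decide +kernel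

theorem pre : tcPre D cl invs rels subs W0 128 128 = true := by decide +kernel

theorem u0 : Upto D.val 0 0 := Upto.zero _
theorem u1 : Upto D.val 128 128 := u0.step c0 (by decide) (by decide)

theorem relIndex {G : Type*} [Group G] (g : Nat → G) (K : Subgroup G) (hinv : ∀ k ∈ invs, g k * g k = 1)
    (hrel : ∀ r ∈ rels, wprod g r = 1) (hsub : ∀ h ∈ subs, wprod g h ∈ K) :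
    K.relIndex (genW g W0) ≠ 0 ∧ K.relIndex (genW g W0) ≤ 128 :=
  tc_relIndex g K D cl invs rels subs W0 _ _ hinv hrel hsub pre u1

end CfsgH7.McLSylT

namespace CfsgH7.McLSyl

def R : List (List Nat) := [[0,3,0,3],[2,4,2,4],[4,4,4,4],[0,0,2,2,2,2],[0,2,2,4,1,5],[0,3,4,3,5,0,4,4]]
def S : List (List Nat) := []
theorem p2 : P2.{u} 3 R S 128 := fun _ _ g K hs hS =>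
  have hf := hs.follows (invs := McLSylT.invs) (rels := McLSylT.rels) (by decide +kernel)
  McLSylT.relIndex g K hf.1 hf.2 hS
noncomputable def Rf : List (List Nat) := R ++ ([]).map (substW S)
theorem pr : Pr.{u} 3 Rf 128 := Pr.step (S := S) p2 Pr.nil

end CfsgH7.McLSyl

namespace CfsgH7.McL.Fu

open CfsgH7.McL

def SW : List (List Nat) := [[6,2,6,4,1,6,0,0,4,6,0,6,0,4],[1,6,2,4,0,0,2,6,0,6,3,1,3,4],[1,2,6,0,4,1,6,3,0,6,0,0]]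
def RV : List (List Nat) := [[0],[2],[4]]
def zv : List Nat := [0,0]
theorem hS : Nat.card (genW g SW) = 2 ^ 7 :=
  M0.pcard (U := SW) McLSyl.pr (by decide +kernel) (M0.ge SW [⟨0, [[0],[2],[4]], [0,1,0,2,1,0,1,0], 32⟩,
  ⟨1, [[0,4,3],[1,2,4]], [0,1], 4⟩] 9 (by decide +kernel))
def crC : List Lvl := [⟨228, [[0],[2],[4],[6]], [0,1,2,3,0,1,0,3,2,0,1,3,0], 275⟩,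
  ⟨94, [[0,6,1],[2,6,3,6],[0,0,2,2,4]], [0,1,2,0,1,2,2,0,1,0,2,0,1,0], 162⟩,
  ⟨170, [[0,4,3,0,4,1,3,3],[1,2,6,0,0,6,1,6]], [0,1,0,1,0,1,0,1,0,1,0,1], 105⟩,
  ⟨150, [[0,4,0,0,4,1,1,4,1],[6,1,3,0,4,1,2,0,6],[6,0,6,1,2,4,3,0,6,1,6],[3,3,4,2,1,4,0,4,6,4,1,3,0]], [0,2,3,1,3,0,1], 24⟩,
  ⟨225, [[0,2,2,0,4,2,6,3,4,1,3,3,1],[0,4,6,1,1,6,4,6,0,0,6,4,1]], [0,1], 4⟩,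
  ⟨115, [[2,6,1,4,1,6,0,4,0,6,3]], [0], 2⟩]
def crM : List (List Nat) := [[],
  [],
  [],
  [],
  [0x80000000000000000010000000000],
  []]
def crZ : List Nat := [0x7ffffffffffffffffffffffffffffffffffffffffffffffffffffffffffffffffffff]
theorem crL : LvOk Cfsg.Spor.McL pt 275 [] (mkLV crC crM) := M0.lvOk crC 9 crM (by decide +kernel) (by decide +kernel)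
noncomputable def hrT : Bt := (.br 0 [] [] (Bt.ofL [(228, [], (.step 0 5 [] (.step 0 5 [] (.step 2 0 [] (.step 2 0 [] (.br 0 [[0]] [0] (Bt.ofL [(115, [], (.leaf 0))]))))))),
 (170, [0,3], (.step 0 5 [2,6,1,4,1,6,0,4,0,6,3,1,2,6,0,0,6,1,6,0,6,1] (.step 0 5 [6,0,6,1,1,6,3,0,0,2,2,0,4,2,6,3,4,1,3,3,1,2,2,0,4,1,2,4,1] (.step 2 0 [6,1,3,0,4,1,2,0,6] (.step 2 0 [0,4,6,1,1,6,4,6,0,0,6,4,2,2,0,4,2,6,3,4,1,3,3,1] (.br 0 [] [] .nil))))))]))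
theorem hr : Subgroup.centralizer {z | ∃ w ∈ RV.map (substW SW), wprod g w = z} = genW g [substW SW zv] :=
  M0.cen crL _ [[0],[0,0],[2],[2,2],[2,2,2,2],[4],[4,4],[0,0,0],[1],[2,2,2],[2,2,2,2,2],[2,2,2,2,2,2],[3],[4,4,4],[5],[0,2],[0,4],[2,0],[2,4],[4,0],[4,2]] _ 7 9 crZ hrT (by decide +kernel) (by decide +kernel)
def czC : List Lvl := [⟨241, [[0],[2],[4],[6]], [0,1,2,3,0,1,2,0,3,1,0,0], 275⟩,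
  ⟨226, [[1,4,0],[3,6,2],[6,4,6]], [0,1,2,0,1,2,0,2,1,0,2,1,0,1], 162⟩,
  ⟨205, [[4,1,6,0,4],[0,0,0,6,1,1,1],[2,0,2,4,3,1,3],[4,6,0,6,2,2,6]], [0,2,3,0,1,2,3,2,0], 56⟩,
  ⟨101, [[4,3,6,4,6,2,4],[0,3,3,6,3,4,0,6,2,0],[0,3,6,3,4,1,4,1,6,2,6]], [0,2,0,1,0,1,0,1,0,1], 45⟩,
  ⟨215, [[4,0,3,4,6,4,6,4,2,1,4]], [0], 2⟩,
  ⟨75, [[2,1,4,0,6,4,6,1,4,0,3]], [0], 2⟩,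
  ⟨130, [[0,2,2,0,6,0,6,1,6,1,3,3,1]], [0], 2⟩]
def czM : List (List Nat) := [[],
  [0x20300001000d20802b4967004061800801a9041404830420010c81404580200c20040],
  [],
  [0x40000800000000000000000000000000000000000000000000000000000],
  [0x4000000000000000000000000000000008000000000000000000],
  [],
  []]
def czZ : List Nat := [0x7ffffffffffffffffffffffffffffffffffffffffffffffffffffffffffffffffffff]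
theorem czL : LvOk Cfsg.Spor.McL pt 275 [] (mkLV czC czM) := M0.lvOk czC 9 czM (by decide +kernel) (by decide +kernel)
noncomputable def hzT : Bt := (.br 0 [[0],[2],[4]] [0,2,1,0,1,2,1,0,1] (Bt.ofL [(241, [], (.step 0 0 [] (.br 0 [[3,1],[2,5,0]] [0,1,0,1] (Bt.ofL [(205, [], (.step 0 0 [] (.br 0 [[2,5,2,0,0]] [0] (Bt.ofL [(215, [], (.br 0 [[4,4,0,0]] [0] (Bt.ofL [(75, [], (.step 0 0 [] (.leaf 0)))])))])))),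
 (169, [4,6,0,6,2,2,6,4,6,0,6,2,2,6], (.step 0 0 [4,0,3,4,6,4,6,4,2,1,4,0,3,6,3,4,1,4,1,6,2,6] (.br 0 [] [] (Bt.ofL [(37, [], (.br 0 [] [] (Bt.ofL [(109, [], (.step 0 0 [0,2,2,0,6,0,6,1,6,1,3,3,1] (.leaf 1))),
 (3, [2,1,4,0,6,4,6,1,4,0,3], (.step 0 0 [0,2,2,0,6,0,6,1,6,1,3,3,1] (.leaf 2)))]))),
 (186, [4,0,3,4,6,4,6,4,2,1,4], (.br 0 [] [] (Bt.ofL [(235, [], (.step 0 0 [] (.leaf 3))),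
 (131, [2,1,4,0,6,4,6,1,4,0,3], (.step 0 0 [] (.leaf 4)))])))])))),
 (17, [0,0,0,6,1,1,1], (.step 0 0 [4,0,3,4,6,4,6,4,2,1,4,0,3,3,6,3,4,0,6,2,0,0,3,6,3,4,1,4,1,6,2,6,4,3,6,4,6,2,4] (.br 0 [] [] (Bt.ofL [(83, [], (.br 0 [] [] (Bt.ofL [(211, [], (.step 0 0 [0,2,2,0,6,0,6,1,6,1,3,3,1] (.leaf 5))),
 (173, [2,1,4,0,6,4,6,1,4,0,3], (.step 0 0 [0,2,2,0,6,0,6,1,6,1,3,3,1] (.leaf 6)))]))),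
 (119, [4,0,3,4,6,4,6,4,2,1,4], (.br 0 [] [] (Bt.ofL [(183, [], (.step 0 0 [] (.leaf 7))),
 (238, [2,1,4,0,6,4,6,1,4,0,3], (.step 0 0 [] (.leaf 8)))])))])))),
 (193, [6,3,3,6,1,6,1,6,0,4], (.step 0 0 [0,3,6,3,4,1,4,1,6,2,6,4,3,6,4,6,2,4] (.br 0 [] [] (Bt.ofL [(57, [], (.br 0 [] [] (Bt.ofL [(25, [], (.step 0 0 [0,2,2,0,6,0,6,1,6,1,3,3,1] (.leaf 9))),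
 (235, [2,1,4,0,6,4,6,1,4,0,3], (.step 0 0 [0,2,2,0,6,0,6,1,6,1,3,3,1] (.leaf 10)))]))),
 (186, [4,0,3,4,6,4,6,4,2,1,4], (.br 0 [] [] (Bt.ofL [(0, [], (.step 0 0 [] (.leaf 11))),
 (109, [2,1,4,0,6,4,6,1,4,0,3], (.step 0 0 [] (.leaf 12)))])))])))),
 (107, [4,6,0,6,2,2,6,2,0,2,4,3,1,3], (.step 0 0 [0,3,6,3,4,1,4,1,6,2,6,0,3,3,6,3,4,0,6,2,0,0,3,6,3,4,1,4,1,6,2,6] (.br 0 [] [] (Bt.ofL [(73, [], (.br 0 [] [] (Bt.ofL [(128, [], (.step 0 0 [] (.leaf 13))),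
 (243, [2,1,4,0,6,4,6,1,4,0,3], (.step 0 0 [] (.leaf 14)))]))),
 (239, [4,0,3,4,6,4,6,4,2,1,4], (.br 0 [] [] (Bt.ofL [(13, [], (.step 0 0 [0,2,2,0,6,0,6,1,6,1,3,3,1] (.leaf 15))),
 (259, [2,1,4,0,6,4,6,1,4,0,3], (.step 0 0 [0,2,2,0,6,0,6,1,6,1,3,3,1] (.leaf 16)))])))])))),
 (58, [4,3,6,4,6,2,4,0,0,0,6,1,1,1], (.step 0 0 [0,3,6,3,4,1,4,1,6,2,6,4,0,3,4,6,4,6,4,2,1,4,0,3,6,3,4,1,4,1,6,2,6] (.br 0 [] [] (Bt.ofL [(210, [], (.br 0 [[4,4,3,0]] [0] (Bt.ofL [(158, [], (.step 0 0 [] (.leaf 17)))]))),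
 (96, [4,0,3,4,6,4,6,4,2,1,4], (.br 0 [[4,4,3,0]] [0] (Bt.ofL [(18, [], (.step 0 0 [0,2,2,0,6,0,6,1,6,1,3,3,1] (.leaf 18)))])))])))),
 (199, [4,6,0,6,2,2,6], (.step 0 0 [0,3,6,3,4,1,4,1,6,2,6,4,0,3,4,6,4,6,4,2,1,4,0,3,3,6,3,4,0,6,2,0] (.br 0 [] [] (Bt.ofL [(250, [], (.br 0 [[2,2,5,2,0]] [0] (Bt.ofL [(48, [], (.step 0 0 [0,2,2,0,6,0,6,1,6,1,3,3,1] (.leaf 19)))]))),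
 (234, [4,0,3,4,6,4,6,4,2,1,4], (.br 0 [[2,2,5,2,0]] [0] (Bt.ofL [(75, [], (.step 0 0 [] (.leaf 20)))])))]))))])))),
 (181, [4], (.step 0 0 [1,3,6,1,4,2,6,2,2,1,3,6,2] (.br 0 [[4,3,1],[1,4,4,0]] [0,1] (Bt.ofL [(21, [], (.step 0 0 [4,3,6,4,6,2,4] (.br 0 [] [] (Bt.ofL [(96, [], (.br 0 [] [] (Bt.ofL [(105, [], (.step 0 0 [0,2,2,0,6,0,6,1,6,1,3,3,1] (.leaf 21))),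
 (135, [2,1,4,0,6,4,6,1,4,0,3], (.step 0 0 [0,2,2,0,6,0,6,1,6,1,3,3,1] (.leaf 22)))]))),
 (132, [4,0,3,4,6,4,6,4,2,1,4], (.br 0 [] [] (Bt.ofL [(268, [], (.step 0 0 [] (.leaf 23))),
 (54, [2,1,4,0,6,4,6,1,4,0,3], (.step 0 0 [] (.leaf 24)))])))])))),
 (211, [1,3,6,1,4,2,6,2,2,0,0,6,1,1,1], (.step 0 0 [1,3,6,1,4,2,6,2,2,1,4,3,6,4,6,2,4,0,3,6,3,4,1,4,1,6,2,6,4,3,6,4,6,2,4] (.br 0 [] [] (Bt.ofL [(234, [], (.br 0 [[1,4,4,0]] [0] (Bt.ofL [(200, [], (.step 0 0 [] (.leaf 25)))]))),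
 (60, [4,0,3,4,6,4,6,4,2,1,4], (.br 0 [[1,4,4,0]] [0] (Bt.ofL [(75, [], (.step 0 0 [0,2,2,0,6,0,6,1,6,1,3,3,1] (.leaf 26)))])))])))),
 (100, [2,0,2,4,3,1,3,6,3,3,6,1,6,4], (.step 0 0 [1,3,6,1,4,2,6,2,2,1,4,0,3,4,6,4,6,4,2,1,4,0,3,3,6,3,4,0,6,2,0] (.br 0 [] [] (Bt.ofL [(119, [], (.br 0 [] [] (Bt.ofL [(40, [], (.step 0 0 [] (.leaf 27))),
 (219, [2,1,4,0,6,4,6,1,4,0,3], (.step 0 0 [] (.leaf 28)))]))),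
 (73, [4,0,3,4,6,4,6,4,2,1,4], (.br 0 [] [] (Bt.ofL [(39, [], (.step 0 0 [0,2,2,0,6,0,6,1,6,1,3,3,1] (.leaf 29))),
 (104, [2,1,4,0,6,4,6,1,4,0,3], (.step 0 0 [0,2,2,0,6,0,6,1,6,1,3,3,1] (.leaf 30)))])))])))),
 (274, [4,1,6,0,4], (.step 0 0 [0,3,3,6,3,4,0,6,2,0,4,0,3,4,6,4,6,4,2,1,3,6,4,6,2,4] (.br 0 [] [] (Bt.ofL [(73, [], (.br 0 [] [] (Bt.ofL [(213, [], (.step 0 0 [0,2,2,0,6,0,6,1,6,1,3,3,1] (.leaf 31))),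
 (219, [2,1,4,0,6,4,6,1,4,0,3], (.step 0 0 [0,2,2,0,6,0,6,1,6,1,3,3,1] (.leaf 32)))]))),
 (120, [4,0,3,4,6,4,6,4,2,1,4], (.br 0 [] [] (Bt.ofL [(39, [], (.step 0 0 [] (.leaf 33))),
 (115, [2,1,4,0,6,4,6,1,4,0,3], (.step 0 0 [] (.leaf 34)))])))])))),
 (27, [4,1,6,0,4,0,0,0,6,1,1,1], (.step 0 0 [4,3,6,4,6,2,4,2,1,4,0,6,4,6,1,4,0,3,0,3,6,3,4,1,4,1,6,2,6] (.br 0 [] [] (Bt.ofL [(119, [], (.br 0 [] [] (Bt.ofL [(273, [], (.step 0 0 [0,2,2,0,6,0,6,1,6,1,3,3,1] (.leaf 35))),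
 (39, [2,1,4,0,6,4,6,1,4,0,3], (.step 0 0 [0,2,2,0,6,0,6,1,6,1,3,3,1] (.leaf 36)))]))),
 (120, [4,0,3,4,6,4,6,4,2,1,4], (.br 0 [] [] (Bt.ofL [(40, [], (.step 0 0 [] (.leaf 37))),
 (213, [2,1,4,0,6,4,6,1,4,0,3], (.step 0 0 [] (.leaf 38)))])))])))),
 (16, [4,6,0,6,2,2,6,2,0,2,4,3,1,3], (.step 0 0 [0,3,6,3,4,1,4,1,6,2,6,0,3,3,6,3,4,0,6,2,0] (.br 0 [] [] (Bt.ofL [(210, [], (.br 0 [] [] (Bt.ofL [(230, [], (.step 0 0 [0,2,2,0,6,0,6,1,6,1,3,3,1] (.leaf 39))),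
 (140, [2,1,4,0,6,4,6,1,4,0,3], (.step 0 0 [0,2,2,0,6,0,6,1,6,1,3,3,1] (.leaf 40)))]))),
 (254, [4,0,3,4,6,4,6,4,2,1,4], (.br 0 [] [] (Bt.ofL [(10, [], (.step 0 0 [] (.leaf 41))),
 (110, [2,1,4,0,6,4,6,1,4,0,3], (.step 0 0 [] (.leaf 42)))])))])))),
 (92, [0,2,2,0,6,0,6,1,6,1,3,3,0,0,6,1,1,1], (.step 0 0 [4,3,6,4,6,2,4,0,3,3,6,3,4,0,6,2,0,4,0,3,4,6,4,6,4,2,1,3,6,4,6,2,4] (.br 0 [] [] (Bt.ofL [(22, [], (.br 0 [[2,2,5,2,0]] [0] (Bt.ofL [(200, [], (.step 0 0 [] (.leaf 43)))]))),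
 (234, [4,0,3,4,6,4,6,4,2,1,4], (.br 0 [[2,2,5,2,0]] [0] (Bt.ofL [(149, [], (.step 0 0 [0,2,2,0,6,0,6,1,6,1,3,3,1] (.leaf 44)))])))])))),
 (11, [4,6,0,6,2,2,6,0,0,0,6,1,1,1], (.step 0 0 [4,0,3,4,6,4,6,4,2,1,4,0,3,3,6,3,4,0,6,2,0] (.br 0 [] [] (Bt.ofL [(37, [], (.br 0 [] [] (Bt.ofL [(160, [], (.step 0 0 [] (.leaf 45))),
 (247, [2,1,4,0,6,4,6,1,4,0,3], (.step 0 0 [] (.leaf 46)))]))),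
 (94, [4,0,3,4,6,4,6,4,2,1,4], (.br 0 [] [] (Bt.ofL [(0, [], (.step 0 0 [0,2,2,0,6,0,6,1,6,1,3,3,1] (.leaf 47))),
 (3, [2,1,4,0,6,4,6,1,4,0,3], (.step 0 0 [0,2,2,0,6,0,6,1,6,1,3,3,1] (.leaf 48)))])))])))),
 (146, [2,0,2,4,3,1,3], (.step 0 0 [4,3,6,4,6,2,4] (.br 0 [] [] (Bt.ofL [(96, [], (.br 0 [] [] (Bt.ofL [(9, [], (.step 0 0 [0,2,2,0,6,0,6,1,6,1,3,3,1] (.leaf 49))),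
 (252, [2,1,4,0,6,4,6,1,4,0,3], (.step 0 0 [0,2,2,0,6,0,6,1,6,1,3,3,1] (.leaf 50)))]))),
 (132, [4,0,3,4,6,4,6,4,2,1,4], (.br 0 [] [] (Bt.ofL [(185, [], (.step 0 0 [] (.leaf 51))),
 (46, [2,1,4,0,6,4,6,1,4,0,3], (.step 0 0 [] (.leaf 52)))])))])))),
 (56, [6,3,3,6,1,6,4], (.step 0 0 [1,3,6,1,4,2,6,2,2,1,4,0,3,4,6,4,6,4,2,1,4,0,3,3,6,3,4,0,6,2,0] (.br 0 [] [] (Bt.ofL [(94, [], (.br 0 [] [] (Bt.ofL [(260, [], (.step 0 0 [] (.leaf 53))),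
 (88, [2,1,4,0,6,4,6,1,4,0,3], (.step 0 0 [] (.leaf 54)))]))),
 (37, [4,0,3,4,6,4,6,4,2,1,4], (.br 0 [] [] (Bt.ofL [(131, [], (.step 0 0 [0,2,2,0,6,0,6,1,6,1,3,3,1] (.leaf 55))),
 (25, [2,1,4,0,6,4,6,1,4,0,3], (.step 0 0 [0,2,2,0,6,0,6,1,6,1,3,3,1] (.leaf 56)))])))])))),
 (259, [2,0,2,4,3,1,3,4,1,6,0,4], (.step 0 0 [0,3,3,6,3,4,0,6,2,0,4,0,3,4,6,4,6,4,2,1,3,6,4,6,2,4] (.br 0 [] [] (Bt.ofL [(37, [], (.br 0 [] [] (Bt.ofL [(3, [], (.step 0 0 [0,2,2,0,6,0,6,1,6,1,3,3,1] (.leaf 57))),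
 (88, [2,1,4,0,6,4,6,1,4,0,3], (.step 0 0 [0,2,2,0,6,0,6,1,6,1,3,3,1] (.leaf 58)))]))),
 (137, [4,0,3,4,6,4,6,4,2,1,4], (.br 0 [] [] (Bt.ofL [(131, [], (.step 0 0 [] (.leaf 59))),
 (247, [2,1,4,0,6,4,6,1,4,0,3], (.step 0 0 [] (.leaf 60)))])))])))),
 (224, [4,1,6,0,4,6,3,3,6,1,6,4], (.step 0 0 [4,3,6,4,6,2,4,0,3,6,3,4,1,4,1,6,2,6,4,3,6,4,6,2,4] (.br 0 [] [] (Bt.ofL [(22, [], (.br 0 [[4,3,1]] [0] (Bt.ofL [(198, [], (.step 0 0 [] (.leaf 61)))]))),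
 (60, [4,0,3,4,6,4,6,4,2,1,4], (.br 0 [[4,3,1]] [0] (Bt.ofL [(251, [], (.step 0 0 [0,2,2,0,6,0,6,1,6,1,3,3,1] (.leaf 62)))])))]))))])))),
 (80, [0,3], (.step 0 0 [] (.br 0 [[3,0]] [0] (Bt.ofL [(47, [], (.step 0 0 [1,3,6,1,4,2,6,2,6,3,4,1,4,1,6,2,6,0,3,3,6,3,4,0,6,2,0] (.br 0 [] [] (Bt.ofL [(250, [], (.br 0 [] [] (Bt.ofL [(213, [], (.step 0 0 [] (.leaf 63))),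
 (39, [2,1,4,0,6,4,6,1,4,0,3], (.step 0 0 [] (.leaf 64)))]))),
 (57, [4,0,3,4,6,4,6,4,2,1,4], (.br 0 [] [] (Bt.ofL [(30, [], (.step 0 0 [0,2,2,0,6,0,6,1,6,1,3,3,1] (.leaf 65))),
 (248, [2,1,4,0,6,4,6,1,4,0,3], (.step 0 0 [0,2,2,0,6,0,6,1,6,1,3,3,1] (.leaf 66)))])))])))),
 (200, [0,0,0,6,1,1,1], (.step 0 0 [2,1,4,0,6,4,6,1,4,0,3,0,3,6,3,4,1,4,1,6,2,6,4,3,6,4,6,2,4] (.br 0 [] [] (Bt.ofL [(37, [], (.br 0 [] [] (Bt.ofL [(162, [], (.step 0 0 [0,2,2,0,6,0,6,1,6,1,3,3,1] (.leaf 67))),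
 (72, [2,1,4,0,6,4,6,1,4,0,3], (.step 0 0 [0,2,2,0,6,0,6,1,6,1,3,3,1] (.leaf 68)))]))),
 (20, [4,0,3,4,6,4,6,4,2,1,4], (.br 0 [] [] (Bt.ofL [(21, [], (.step 0 0 [] (.leaf 69))),
 (168, [2,1,4,0,6,4,6,1,4,0,3], (.step 0 0 [] (.leaf 70)))])))])))),
 (41, [4,6,0,6,2,2,6,4,6,0,6,2,2,6], (.step 0 0 [1,3,6,1,4,2,6,2,6,3,4,1,4,1,6,2,6,4,3,6,4,6,2,4] (.br 0 [] [] (Bt.ofL [(96, [], (.br 0 [] [] (Bt.ofL [(182, [], (.step 0 0 [] (.leaf 71))),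
 (187, [2,1,4,0,6,4,6,1,4,0,3], (.step 0 0 [] (.leaf 72)))]))),
 (234, [4,0,3,4,6,4,6,4,2,1,4], (.br 0 [] [] (Bt.ofL [(78, [], (.step 0 0 [0,2,2,0,6,0,6,1,6,1,3,3,1] (.leaf 73))),
 (184, [2,1,4,0,6,4,6,1,4,0,3], (.step 0 0 [0,2,2,0,6,0,6,1,6,1,3,3,1] (.leaf 74)))])))])))),
 (34, [0,3,6,3,4,1,4,1,6,2,6,4,6,0,6,2,2,6], (.step 0 0 [0,2,2,0,6,0,6,1,6,1,3,3,1,1,3,6,1,4,2,6,2,2,1,4,3,6,4,6,2,4] (.br 0 [] [] (Bt.ofL [(150, [], (.br 0 [] [] (Bt.ofL [(72, [], (.step 0 0 [0,2,2,0,6,0,6,1,6,1,3,3,1] (.leaf 75))),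
 (31, [2,1,4,0,6,4,6,1,4,0,3], (.step 0 0 [0,2,2,0,6,0,6,1,6,1,3,3,1] (.leaf 76)))]))),
 (37, [4,0,3,4,6,4,6,4,2,1,4], (.br 0 [] [] (Bt.ofL [(21, [], (.step 0 0 [] (.leaf 77))),
 (114, [2,1,4,0,6,4,6,1,4,0,3], (.step 0 0 [] (.leaf 78)))])))])))),
 (265, [4,3,6,4,6,2,4,0,0,0,6,1,1,1], (.step 0 0 [1,3,6,1,4,2,6,2,6,3,4,1,4,1,6,2,6,0,3,3,6,3,4,0,6,2,0] (.br 0 [] [] (Bt.ofL [(76, [], (.br 0 [] [] (Bt.ofL [(91, [], (.step 0 0 [] (.leaf 79))),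
 (66, [2,1,4,0,6,4,6,1,4,0,3], (.step 0 0 [] (.leaf 80)))]))),
 (269, [4,0,3,4,6,4,6,4,2,1,4], (.br 0 [] [] (Bt.ofL [(191, [], (.step 0 0 [0,2,2,0,6,0,6,1,6,1,3,3,1] (.leaf 81))),
 (255, [2,1,4,0,6,4,6,1,4,0,3], (.step 0 0 [0,2,2,0,6,0,6,1,6,1,3,3,1] (.leaf 82)))])))])))),
 (88, [0,0,0,6,1,1,1,4,6,0,6,2,2,6,4,1,6,0,4], (.step 0 0 [4,3,6,4,6,2,4,0,3,6,3,4,1,4,1,6,2,6] (.br 0 [] [] (Bt.ofL [(96, [], (.br 0 [] [] (Bt.ofL [(141, [], (.step 0 0 [0,2,2,0,6,0,6,1,6,1,3,3,1] (.leaf 83))),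
 (78, [2,1,4,0,6,4,6,1,4,0,3], (.step 0 0 [0,2,2,0,6,0,6,1,6,1,3,3,1] (.leaf 84)))]))),
 (26, [4,0,3,4,6,4,6,4,2,1,4], (.br 0 [] [] (Bt.ofL [(182, [], (.step 0 0 [] (.leaf 85))),
 (165, [2,1,4,0,6,4,6,1,4,0,3], (.step 0 0 [] (.leaf 86)))])))])))),
 (54, [0,0,0,6,1,1,1,2,0,2,4,3,1,3], (.step 0 0 [0,3,6,3,4,1,4,1,6,2,6,0,3,3,6,3,4,0,6,2,0,0,3,6,3,4,1,4,1,6,2,6] (.br 0 [] [] (Bt.ofL [(189, [], (.br 0 [] [] (Bt.ofL [(173, [], (.step 0 0 [0,2,2,0,6,0,6,1,6,1,3,3,1] (.leaf 87))),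
 (211, [2,1,4,0,6,4,6,1,4,0,3], (.step 0 0 [0,2,2,0,6,0,6,1,6,1,3,3,1] (.leaf 88)))]))),
 (94, [4,0,3,4,6,4,6,4,2,1,4], (.br 0 [] [] (Bt.ofL [(224, [], (.step 0 0 [] (.leaf 89))),
 (4, [2,1,4,0,6,4,6,1,4,0,3], (.step 0 0 [] (.leaf 90)))])))])))),
 (23, [4,1,6,0,4,6,3,3,6,1,6,4], (.step 0 0 [1,3,6,1,4,2,6,2,2,1,4,3,6,4,6,2,4] (.br 0 [] [] (Bt.ofL [(33, [], (.br 0 [] [] (Bt.ofL [(255, [], (.step 0 0 [0,2,2,0,6,0,6,1,6,1,3,3,1] (.leaf 91))),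
 (15, [2,1,4,0,6,4,6,1,4,0,3], (.step 0 0 [0,2,2,0,6,0,6,1,6,1,3,3,1] (.leaf 92)))]))),
 (269, [4,0,3,4,6,4,6,4,2,1,4], (.br 0 [] [] (Bt.ofL [(91, [], (.step 0 0 [] (.leaf 93))),
 (61, [2,1,4,0,6,4,6,1,4,0,3], (.step 0 0 [] (.leaf 94)))])))])))),
 (203, [2,1,4,0,6,4,6,1,4,0,0,2,4,3,1,3], (.step 0 0 [0,3,6,3,4,1,4,1,6,2,6,4,3,6,4,6,2,4,0,3,6,3,4,1,4,1,6,2,6] (.br 0 [] [] (Bt.ofL [(150, [], (.br 0 [] [] (Bt.ofL [(168, [], (.step 0 0 [0,2,2,0,6,0,6,1,6,1,3,3,1] (.leaf 95))),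
 (114, [2,1,4,0,6,4,6,1,4,0,3], (.step 0 0 [0,2,2,0,6,0,6,1,6,1,3,3,1] (.leaf 96)))]))),
 (20, [4,0,3,4,6,4,6,4,2,1,4], (.br 0 [] [] (Bt.ofL [(72, [], (.step 0 0 [] (.leaf 97))),
 (146, [2,1,4,0,6,4,6,1,4,0,3], (.step 0 0 [] (.leaf 98)))])))])))),
 (124, [4,0,3,4,6,4,6,4,2,1,4,0,0,0,6,1,1,1], (.step 0 0 [0,3,3,6,3,4,0,6,2,0,4,0,3,4,6,4,6,4,2,1,3,6,4,6,2,4] (.br 0 [] [] (Bt.ofL [(240, [], (.br 0 [] [] (Bt.ofL [(248, [], (.step 0 0 [0,2,2,0,6,0,6,1,6,1,3,3,1] (.leaf 99))),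
 (12, [2,1,4,0,6,4,6,1,4,0,3], (.step 0 0 [0,2,2,0,6,0,6,1,6,1,3,3,1] (.leaf 100)))]))),
 (57, [4,0,3,4,6,4,6,4,2,1,4], (.br 0 [] [] (Bt.ofL [(213, [], (.step 0 0 [] (.leaf 101))),
 (102, [2,1,4,0,6,4,6,1,4,0,3], (.step 0 0 [] (.leaf 102)))])))])))),
 (135, [2,0,2,4,3,1,3], (.step 0 0 [0,3,6,3,4,1,4,1,6,2,6,1,3,6,1,4,2,6,2,6,3,4,1,4,1,6,2,6,4,3,6,4,6,2,4] (.br 0 [] [] (Bt.ofL [(189, [], (.br 0 [] [] (Bt.ofL [(4, [], (.step 0 0 [] (.leaf 103))),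
 (172, [2,1,4,0,6,4,6,1,4,0,3], (.step 0 0 [] (.leaf 104)))]))),
 (270, [4,0,3,4,6,4,6,4,2,1,4], (.br 0 [] [] (Bt.ofL [(173, [], (.step 0 0 [0,2,2,0,6,0,6,1,6,1,3,3,1] (.leaf 105))),
 (238, [2,1,4,0,6,4,6,1,4,0,3], (.step 0 0 [0,2,2,0,6,0,6,1,6,1,3,3,1] (.leaf 106)))])))])))),
 (139, [4,3,6,4,6,2,4,2,0,2,4,3,1,3], (.step 0 0 [0,3,6,3,4,1,4,1,6,2,6,0,3,3,6,3,4,0,6,2,0,0,3,6,3,4,1,4,1,6,2,6] (.br 0 [] [] (Bt.ofL [(94, [], (.br 0 [] [] (Bt.ofL [(211, [], (.step 0 0 [0,2,2,0,6,0,6,1,6,1,3,3,1] (.leaf 107))),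
 (238, [2,1,4,0,6,4,6,1,4,0,3], (.step 0 0 [0,2,2,0,6,0,6,1,6,1,3,3,1] (.leaf 108)))]))),
 (270, [4,0,3,4,6,4,6,4,2,1,4], (.br 0 [] [] (Bt.ofL [(108, [], (.step 0 0 [] (.leaf 109))),
 (4, [2,1,4,0,6,4,6,1,4,0,3], (.step 0 0 [] (.leaf 110)))])))])))),
 (113, [2,1,4,0,6,4,6,1,4,0,3,0,0,0,6,1,1,1], (.step 0 0 [4,0,3,4,6,4,6,4,2,1,3,6,4,6,2,4,0,3,6,3,4,1,4,1,6,2,6] (.br 0 [] [] (Bt.ofL [(33, [], (.br 0 [] [] (Bt.ofL [(91, [], (.step 0 0 [] (.leaf 111))),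
 (242, [2,1,4,0,6,4,6,1,4,0,3], (.step 0 0 [] (.leaf 112)))]))),
 (76, [4,0,3,4,6,4,6,4,2,1,4], (.br 0 [] [] (Bt.ofL [(15, [], (.step 0 0 [0,2,2,0,6,0,6,1,6,1,3,3,1] (.leaf 113))),
 (191, [2,1,4,0,6,4,6,1,4,0,3], (.step 0 0 [0,2,2,0,6,0,6,1,6,1,3,3,1] (.leaf 114)))])))])))),
 (160, [4,6,0,6,2,2,6], (.step 0 0 [1,3,6,1,4,2,6,2,2,1,2,1,4,0,6,4,6,1,4,0,3,0,3,6,3,4,1,4,1,6,2,6] (.br 0 [] [] (Bt.ofL [(26, [], (.br 0 [] [] (Bt.ofL [(19, [], (.step 0 0 [] (.leaf 115))),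
 (187, [2,1,4,0,6,4,6,1,4,0,3], (.step 0 0 [] (.leaf 116)))]))),
 (96, [4,0,3,4,6,4,6,4,2,1,4], (.br 0 [] [] (Bt.ofL [(184, [], (.step 0 0 [0,2,2,0,6,0,6,1,6,1,3,3,1] (.leaf 117))),
 (153, [2,1,4,0,6,4,6,1,4,0,3], (.step 0 0 [0,2,2,0,6,0,6,1,6,1,3,3,1] (.leaf 118)))])))])))),
 (174, [6,3,3,6,1,6,4], (.step 0 0 [4,0,3,4,6,4,6,4,2,1,4,0,3,6,3,4,1,4,1,6,2,6] (.br 0 [] [] (Bt.ofL [(57, [], (.br 0 [] [] (Bt.ofL [(104, [], (.step 0 0 [] (.leaf 119))),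
 (12, [2,1,4,0,6,4,6,1,4,0,3], (.step 0 0 [] (.leaf 120)))]))),
 (250, [4,0,3,4,6,4,6,4,2,1,4], (.br 0 [] [] (Bt.ofL [(138, [], (.step 0 0 [0,2,2,0,6,0,6,1,6,1,3,3,1] (.leaf 121))),
 (102, [2,1,4,0,6,4,6,1,4,0,3], (.step 0 0 [0,2,2,0,6,0,6,1,6,1,3,3,1] (.leaf 122)))])))])))),
 (194, [2,0,2,4,3,1,3,0,0,0,6,1,1,1], (.step 0 0 [1,3,6,1,4,2,6,2,2,1,4,3,6,4,6,2,4,0,3,3,6,3,4,0,6,2,0] (.br 0 [] [] (Bt.ofL [(239, [], (.br 0 [] [] (Bt.ofL [(128, [], (.step 0 0 [] (.leaf 123))),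
 (64, [2,1,4,0,6,4,6,1,4,0,3], (.step 0 0 [] (.leaf 124)))]))),
 (22, [4,0,3,4,6,4,6,4,2,1,4], (.br 0 [] [] (Bt.ofL [(259, [], (.step 0 0 [0,2,2,0,6,0,6,1,6,1,3,3,1] (.leaf 125))),
 (2, [2,1,4,0,6,4,6,1,4,0,3], (.step 0 0 [0,2,2,0,6,0,6,1,6,1,3,3,1] (.leaf 126)))])))])))),
 (247, [0,0,0,6,1,1,1,6,3,3,6,1,6,4], (.step 0 0 [2,1,4,0,6,4,6,1,4,0,3,4,0,3,4,6,4,6,4,2,1,3,6,4,6,2,4] (.br 0 [] [] (Bt.ofL [(234, [], (.br 0 [] [] (Bt.ofL [(165, [], (.step 0 0 [0,2,2,0,6,0,6,1,6,1,3,3,1] (.leaf 127))),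
 (187, [2,1,4,0,6,4,6,1,4,0,3], (.step 0 0 [0,2,2,0,6,0,6,1,6,1,3,3,1] (.leaf 128)))]))),
 (26, [4,0,3,4,6,4,6,4,2,1,4], (.br 0 [] [] (Bt.ofL [(78, [], (.step 0 0 [] (.leaf 129))),
 (153, [2,1,4,0,6,4,6,1,4,0,3], (.step 0 0 [] (.leaf 130)))])))])))),
 (107, [4,3,6,4,6,2,6,0,6,2,2,6,4,1,6,0,4], (.step 0 0 [4,3,6,4,6,2,4,0,3,6,3,4,1,4,1,6,2,6] (.br 0 [] [] (Bt.ofL [(239, [], (.br 0 [[3,0]] [0] (Bt.ofL [(243, [], (.step 0 0 [0,2,2,0,6,0,6,1,6,1,3,3,1] (.leaf 131)))]))),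
 (228, [4,0,3,4,6,4,6,4,2,1,4], (.br 0 [[3,0]] [0] (Bt.ofL [(128, [], (.step 0 0 [] (.leaf 132)))])))])))),
 (217, [0,3,3,6,3,4,0,6,2,0,4,1,6,0,4], (.step 0 0 [2,1,4,0,6,4,6,1,4,0,3,0,3,3,6,3,4,0,6,2,0] (.br 0 [] [] (Bt.ofL [(228, [], (.br 0 [] [] (Bt.ofL [(259, [], (.step 0 0 [] (.leaf 133))),
 (38, [2,1,4,0,6,4,6,1,4,0,3], (.step 0 0 [] (.leaf 134)))]))),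
 (22, [4,0,3,4,6,4,6,4,2,1,4], (.br 0 [] [] (Bt.ofL [(13, [], (.step 0 0 [0,2,2,0,6,0,6,1,6,1,3,3,1] (.leaf 135))),
 (64, [2,1,4,0,6,4,6,1,4,0,3], (.step 0 0 [0,2,2,0,6,0,6,1,6,1,3,3,1] (.leaf 136)))])))])))),
 (181, [4,0,3,4,6,4,6,4,2,1,1,6,0,4], (.step 0 0 [4,3,6,4,6,2,4,2,1,4,0,6,4,6,1,4,0,3,0,3,6,3,4,1,4,1,6,2,6] (.br 0 [] [] (Bt.ofL [(215, [], (.br 0 [] [] (Bt.ofL [(133, [], (.step 0 0 [0,2,2,0,6,0,6,1,6,1,3,3,1] (.leaf 137))),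
 (166, [2,1,4,0,6,4,6,1,4,0,3], (.step 0 0 [0,2,2,0,6,0,6,1,6,1,3,3,1] (.leaf 138)))]))),
 (186, [4,0,3,4,6,4,6,4,2,1,4], (.br 0 [] [] (Bt.ofL [(82, [], (.step 0 0 [] (.leaf 139))),
 (212, [2,1,4,0,6,4,6,1,4,0,3], (.step 0 0 [] (.leaf 140)))])))])))),
 (55, [2,0,2,4,3,1,3,4,1,6,0,4], (.step 0 0 [0,3,3,6,3,4,0,6,2,0] (.br 0 [] [] (Bt.ofL [(215, [], (.br 0 [] [] (Bt.ofL [(82, [], (.step 0 0 [0,2,2,0,6,0,6,1,6,1,3,3,1] (.leaf 141))),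
 (246, [2,1,4,0,6,4,6,1,4,0,3], (.step 0 0 [0,2,2,0,6,0,6,1,6,1,3,3,1] (.leaf 142)))]))),
 (210, [4,0,3,4,6,4,6,4,2,1,4], (.br 0 [] [] (Bt.ofL [(36, [], (.step 0 0 [] (.leaf 143))),
 (166, [2,1,4,0,6,4,6,1,4,0,3], (.step 0 0 [] (.leaf 144)))])))])))),
 (196, [0,0,0,6,1,1,1,4,6,0,6,2,2,6], (.step 0 0 [0,3,3,6,3,4,0,6,2,0] (.br 0 [] [] (Bt.ofL [(228, [], (.br 0 [[3,0]] [0] (Bt.ofL [(64, [], (.step 0 0 [] (.leaf 145)))]))),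
 (239, [4,0,3,4,6,4,6,4,2,1,4], (.br 0 [[3,0]] [0] (Bt.ofL [(38, [], (.step 0 0 [0,2,2,0,6,0,6,1,6,1,3,3,1] (.leaf 146)))])))]))))])))),
 (2, [6,1,4,1], (.step 0 0 [1,3,6,1,4,2,6,2,2,1,6,4,6,1,4,0] (.br 0 [[2,1],[4,2,0,0]] [0,1,0,1] (Bt.ofL [(23, [4,3,6,4,6,2,4,2,0,2,4,3,1,3], (.step 0 0 [4,3,6,4,6,2,4,0,2,2,0,6,0,6,1,6,1,3,3,1,4,3,6,4,6,2,4] (.br 0 [] [] (Bt.ofL [(269, [], (.br 0 [] [] (Bt.ofL [(9, [], (.step 0 0 [] (.leaf 147))),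
 (54, [2,1,4,0,6,4,6,1,4,0,3], (.step 0 0 [] (.leaf 148)))]))),
 (215, [4,0,3,4,6,4,6,4,2,1,4], (.br 0 [] [] (Bt.ofL [(159, [], (.step 0 0 [0,2,2,0,6,0,6,1,6,1,3,3,1] (.leaf 149))),
 (17, [2,1,4,0,6,4,6,1,4,0,3], (.step 0 0 [0,2,2,0,6,0,6,1,6,1,3,3,1] (.leaf 150)))])))])))),
 (53, [4,6,0,6,2,2,6,2,0,2,4,3,1,3], (.step 0 0 [0,2,2,0,6,0,6,1,6,1,3,3,1,1,3,6,1,4,2,6,2,2,1,4,3,6,4,6,2,4] (.br 0 [] [] (Bt.ofL [(186, [], (.br 0 [] [] (Bt.ofL [(41, [], (.step 0 0 [0,2,2,0,6,0,6,1,6,1,3,3,1] (.leaf 151))),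
 (109, [2,1,4,0,6,4,6,1,4,0,3], (.step 0 0 [0,2,2,0,6,0,6,1,6,1,3,3,1] (.leaf 152)))]))),
 (37, [4,0,3,4,6,4,6,4,2,1,4], (.br 0 [] [] (Bt.ofL [(90, [], (.step 0 0 [] (.leaf 153))),
 (208, [2,1,4,0,6,4,6,1,4,0,3], (.step 0 0 [] (.leaf 154)))])))])))),
 (62, [4,1,6,0,4], (.step 0 0 [0,3,6,3,4,1,4,1,6,2,6,4,0,3,4,6,4,6,4,2,1,4,0,3,3,6,3,4,0,6,2,0] (.br 0 [] [] (Bt.ofL [(60, [], (.br 0 [] [] (Bt.ofL [(16, [], (.step 0 0 [0,2,2,0,6,0,6,1,6,1,3,3,1] (.leaf 155))),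
 (122, [2,1,4,0,6,4,6,1,4,0,3], (.step 0 0 [0,2,2,0,6,0,6,1,6,1,3,3,1] (.leaf 156)))]))),
 (118, [4,0,3,4,6,4,6,4,2,1,4], (.br 0 [] [] (Bt.ofL [(80, [], (.step 0 0 [] (.leaf 157))),
 (241, [2,1,4,0,6,4,6,1,4,0,3], (.step 0 0 [] (.leaf 158)))])))])))),
 (6, [4,6,0,6,2,2,6,4,6,0,6,2,2,6], (.step 0 0 [0,3,3,6,3,4,0,6,2,0,4,0,3,4,6,4,6,4,2,1,3,6,4,6,2,4] (.br 0 [] [] (Bt.ofL [(148, [], (.br 0 [[4,2,0,0]] [0] (Bt.ofL [(141, [], (.step 0 0 [0,2,2,0,6,0,6,1,6,1,3,3,1] (.leaf 159)))]))),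
 (26, [4,0,3,4,6,4,6,4,2,1,4], (.br 0 [[4,2,0,0]] [0] (Bt.ofL [(153, [], (.step 0 0 [] (.leaf 160)))])))])))),
 (67, [1,3,6,1,4,2,6,2,2,1,4,1,6,0,4], (.step 0 0 [4,3,6,4,6,2,4,2,1,4,0,6,4,6,1,4,0,3,0,3,6,3,4,1,4,1,6,2,6] (.br 0 [] [] (Bt.ofL [(240, [], (.br 0 [] [] (Bt.ofL [(213, [], (.step 0 0 [] (.leaf 161))),
 (264, [2,1,4,0,6,4,6,1,4,0,3], (.step 0 0 [] (.leaf 162)))]))),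
 (250, [4,0,3,4,6,4,6,4,2,1,4], (.br 0 [] [] (Bt.ofL [(40, [], (.step 0 0 [0,2,2,0,6,0,6,1,6,1,3,3,1] (.leaf 163))),
 (102, [2,1,4,0,6,4,6,1,4,0,3], (.step 0 0 [0,2,2,0,6,0,6,1,6,1,3,3,1] (.leaf 164)))])))])))),
 (75, [2,0,2,4,3,1,3], (.step 0 0 [0,3,3,6,3,4,0,6,2,0,2,1,4,0,6,4,6,1,4,0,3,0,3,6,3,4,1,4,1,6,2,6] (.br 0 [] [] (Bt.ofL [(210, [], (.br 0 [[4,4,3,1]] [0] (Bt.ofL [(195, [], (.step 0 0 [] (.leaf 165)))]))),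
 (76, [4,0,3,4,6,4,6,4,2,1,4], (.br 0 [[4,4,3,1]] [0] (Bt.ofL [(103, [], (.step 0 0 [0,2,2,0,6,0,6,1,6,1,3,3,1] (.leaf 166)))])))])))),
 (203, [4,6,0,6,2,2,6], (.step 0 0 [4,3,6,4,6,2,4,0,3,6,3,4,1,4,1,6,2,6,4,3,6,4,6,2,4] (.br 0 [[4,2,2,0]] [0] (Bt.ofL [(76, [], (.br 0 [[5,1,5,0]] [0] (Bt.ofL [(93, [], (.step 0 0 [] (.leaf 167)))])))]))))])))),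
 (230, [4,0,3], (.step 0 0 [4,1,6,0,0,3,4,6,4,6,4,2,1,4,1,4,0] (.br 0 [[0,4,2,0],[4,0,4,0]] [0,1] (Bt.ofL [(182, [], (.step 0 0 [0,3,3,6,3,4,0,6,2,0,2,1,4,0,6,4,6,1,4,0,3,0,3,6,3,4,1,4,1,6,2,6] (.br 0 [] [] (Bt.ofL [(22, [], (.br 0 [] [] (Bt.ofL [(179, [], (.step 0 0 [] (.leaf 168))),
 (128, [2,1,4,0,6,4,6,1,4,0,3], (.step 0 0 [] (.leaf 169)))]))),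
 (225, [4,0,3,4,6,4,6,4,2,1,4], (.br 0 [] [] (Bt.ofL [(243, [], (.step 0 0 [0,2,2,0,6,0,6,1,6,1,3,3,1] (.leaf 170))),
 (56, [2,1,4,0,6,4,6,1,4,0,3], (.step 0 0 [0,2,2,0,6,0,6,1,6,1,3,3,1] (.leaf 171)))])))])))),
 (224, [1,3,6,1,4,2,6,2,2,0,0,6,1,1,1], (.step 0 0 [4,3,6,4,6,2,4] (.br 0 [] [] (Bt.ofL [(150, [], (.br 0 [] [] (Bt.ofL [(205, [], (.step 0 0 [] (.leaf 172))),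
 (171, [2,1,4,0,6,4,6,1,4,0,3], (.step 0 0 [] (.leaf 173)))]))),
 (60, [4,0,3,4,6,4,6,4,2,1,4], (.br 0 [] [] (Bt.ofL [(31, [], (.step 0 0 [0,2,2,0,6,0,6,1,6,1,3,3,1] (.leaf 174))),
 (204, [2,1,4,0,6,4,6,1,4,0,3], (.step 0 0 [0,2,2,0,6,0,6,1,6,1,3,3,1] (.leaf 175)))])))])))),
 (35, [0,0,0,6,1,1,1], (.step 0 0 [2,1,4,0,6,4,6,1,4,0,3,4,0,3,4,6,4,6,4,2,1,3,6,4,6,2,4] (.br 0 [] [] (Bt.ofL [(269, [], (.br 0 [] [] (Bt.ofL [(71, [], (.step 0 0 [0,2,2,0,6,0,6,1,6,1,3,3,1] (.leaf 176))),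
 (163, [2,1,4,0,6,4,6,1,4,0,3], (.step 0 0 [0,2,2,0,6,0,6,1,6,1,3,3,1] (.leaf 177)))]))),
 (96, [4,0,3,4,6,4,6,4,2,1,4], (.br 0 [] [] (Bt.ofL [(268, [], (.step 0 0 [] (.leaf 178))),
 (105, [2,1,4,0,6,4,6,1,4,0,3], (.step 0 0 [] (.leaf 179)))])))])))),
 (172, [2,0,2,4,3,1,3,6,3,3,6,1,6,4], (.step 0 0 [4,3,6,4,6,2,4,0,3,3,6,3,4,0,6,2,0] (.br 0 [] [] (Bt.ofL [(148, [], (.br 0 [] [] (Bt.ofL [(31, [], (.step 0 0 [] (.leaf 180))),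
 (101, [2,1,4,0,6,4,6,1,4,0,3], (.step 0 0 [] (.leaf 181)))]))),
 (60, [4,0,3,4,6,4,6,4,2,1,4], (.br 0 [] [] (Bt.ofL [(190, [], (.step 0 0 [0,2,2,0,6,0,6,1,6,1,3,3,1] (.leaf 182))),
 (171, [2,1,4,0,6,4,6,1,4,0,3], (.step 0 0 [0,2,2,0,6,0,6,1,6,1,3,3,1] (.leaf 183)))])))])))),
 (253, [0,0,0,6,1,1,1,6,3,3,6,1,6,4], (.step 0 0 [0,2,2,0,6,0,6,1,6,1,3,3,1,4,3,6,4,6,2,4,0,3,6,3,4,1,4,1,6,2,6,4,3,6,4,6,2,4] (.br 0 [] [] (Bt.ofL [(207, [], (.br 0 [[0,4,2,0]] [0] (Bt.ofL [(126, [], (.step 0 0 [0,2,2,0,6,0,6,1,6,1,3,3,1] (.leaf 184)))]))),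
 (270, [4,0,3,4,6,4,6,4,2,1,4], (.br 0 [[0,4,2,0]] [0] (Bt.ofL [(116, [], (.step 0 0 [] (.leaf 185)))])))])))),
 (226, [0,2,2,0,6,0,6,1,6,1,3,3,0,0,6,1,1,1], (.step 0 0 [4,0,3,4,6,4,6,4,2,1,4,0,3,6,3,4,1,4,1,6,2,6] (.br 0 [] [] (Bt.ofL [(76, [], (.br 0 [] [] (Bt.ofL [(106, [], (.step 0 0 [0,2,2,0,6,0,6,1,6,1,3,3,1] (.leaf 186))),
 (95, [2,1,4,0,6,4,6,1,4,0,3], (.step 0 0 [0,2,2,0,6,0,6,1,6,1,3,3,1] (.leaf 187)))]))),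
 (189, [4,0,3,4,6,4,6,4,2,1,4], (.br 0 [] [] (Bt.ofL [(125, [], (.step 0 0 [] (.leaf 188))),
 (180, [2,1,4,0,6,4,6,1,4,0,3], (.step 0 0 [] (.leaf 189)))])))])))),
 (177, [4,1,6,0,4,0,0,0,6,1,1,1], (.step 0 0 [4,0,3,4,6,4,6,4,2,1,3,6,4,6,2,4,0,3,6,3,4,1,4,1,6,2,6] (.br 0 [] [] (Bt.ofL [(26, [], (.br 0 [] [] (Bt.ofL [(125, [], (.step 0 0 [0,2,2,0,6,0,6,1,6,1,3,3,1] (.leaf 190))),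
 (181, [2,1,4,0,6,4,6,1,4,0,3], (.step 0 0 [0,2,2,0,6,0,6,1,6,1,3,3,1] (.leaf 191)))]))),
 (189, [4,0,3,4,6,4,6,4,2,1,4], (.br 0 [] [] (Bt.ofL [(106, [], (.step 0 0 [] (.leaf 192))),
 (55, [2,1,4,0,6,4,6,1,4,0,3], (.step 0 0 [] (.leaf 193)))])))])))),
 (145, [4,1,6,0,4,6,3,3,6,1,6,4], (.step 0 0 [4,3,6,4,6,2,4,2,1,4,0,6,4,6,1,4,0,3,0,3,6,3,4,1,4,1,6,2,6] (.br 0 [] [] (Bt.ofL [(234, [], (.br 0 [] [] (Bt.ofL [(45, [], (.step 0 0 [0,2,2,0,6,0,6,1,6,1,3,3,1] (.leaf 194))),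
 (100, [2,1,4,0,6,4,6,1,4,0,3], (.step 0 0 [0,2,2,0,6,0,6,1,6,1,3,3,1] (.leaf 195)))]))),
 (207, [4,0,3,4,6,4,6,4,2,1,4], (.br 0 [] [] (Bt.ofL [(116, [], (.step 0 0 [] (.leaf 196))),
 (23, [2,1,4,0,6,4,6,1,4,0,3], (.step 0 0 [] (.leaf 197)))])))])))),
 (15, [4,6,0,6,2,2,6,0,0,0,6,1,1,1], (.step 0 0 [2,1,4,0,6,4,6,1,4,0,3,4,3,6,4,6,2,4] (.br 0 [] [] (Bt.ofL [(120, [], (.br 0 [] [] (Bt.ofL [(58, [], (.step 0 0 [0,2,2,0,6,0,6,1,6,1,3,3,1] (.leaf 198))),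
 (12, [2,1,4,0,6,4,6,1,4,0,3], (.step 0 0 [0,2,2,0,6,0,6,1,6,1,3,3,1] (.leaf 199)))]))),
 (119, [4,0,3,4,6,4,6,4,2,1,4], (.br 0 [] [] (Bt.ofL [(213, [], (.step 0 0 [] (.leaf 200))),
 (44, [2,1,4,0,6,4,6,1,4,0,3], (.step 0 0 [] (.leaf 201)))])))])))),
 (8, [2,0,2,4,3,1,3,4,1,6,0,4], (.step 0 0 [0,3,6,3,4,1,4,1,6,2,6,4,0,3,4,6,4,6,4,2,1,4,0,3,3,6,3,4,0,6,2,0] (.br 0 [] [] (Bt.ofL [(148, [], (.br 0 [] [] (Bt.ofL [(205, [], (.step 0 0 [0,2,2,0,6,0,6,1,6,1,3,3,1] (.leaf 202))),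
 (190, [2,1,4,0,6,4,6,1,4,0,3], (.step 0 0 [0,2,2,0,6,0,6,1,6,1,3,3,1] (.leaf 203)))]))),
 (150, [4,0,3,4,6,4,6,4,2,1,4], (.br 0 [] [] (Bt.ofL [(31, [], (.step 0 0 [] (.leaf 204))),
 (72, [2,1,4,0,6,4,6,1,4,0,3], (.step 0 0 [] (.leaf 205)))])))])))),
 (256, [2,1,4,0,6,4,6,1,4,0,3,4,1,6,0,4], (.step 0 0 [4,3,6,4,6,2,4] (.br 0 [] [] (Bt.ofL [(269, [], (.br 0 [[3,4,2,2]] [0] (Bt.ofL [(268, [], (.step 0 0 [] (.leaf 206)))]))),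
 (132, [4,0,3,4,6,4,6,4,2,1,4], (.br 0 [[3,4,2,2]] [0] (Bt.ofL [(163, [], (.step 0 0 [0,2,2,0,6,0,6,1,6,1,3,3,1] (.leaf 207)))])))])))),
 (187, [4,6,0,6,2,2,6], (.step 0 0 [0,3,3,6,3,4,0,6,2,0,2,1,4,0,6,4,6,1,4,0,3,0,3,6,3,4,1,4,1,6,2,6] (.br 0 [] [] (Bt.ofL [(170, [], (.br 0 [[4,0,4,0]] [0] (Bt.ofL [(249, [], (.step 0 0 [0,2,2,0,6,0,6,1,6,1,3,3,1] (.leaf 208)))]))),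
 (225, [4,0,3,4,6,4,6,4,2,1,4], (.br 0 [[4,0,4,0]] [0] (Bt.ofL [(11, [], (.step 0 0 [] (.leaf 209)))])))]))))])))),
 (153, [1,3,4,3], (.step 0 0 [1,3,6,1,4,2,6,2,2,1,3,6,2,6,4,6] (.br 0 [[4,3,0],[3,4,0]] [0,1,0,1] (Bt.ofL [(126, [], (.step 0 0 [2,1,4,0,6,4,6,1,4,0,3,4,3,6,4,6,2,4] (.br 0 [] [] (Bt.ofL [(33, [], (.br 0 [[4,3,0]] [0] (Bt.ofL [(157, [], (.step 0 0 [0,2,2,0,6,0,6,1,6,1,3,3,1] (.leaf 210)))]))),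
 (215, [4,0,3,4,6,4,6,4,2,1,4], (.br 0 [[4,3,0]] [0] (Bt.ofL [(35, [], (.step 0 0 [] (.leaf 211)))])))])))),
 (24, [1,3,6,1,4,2,6,2,2,0,0,6,1,1,1], (.step 0 0 [0,3,6,3,4,1,4,1,6,2,6,4,0,3,4,6,4,6,4,2,1,4,0,3,3,6,3,4,0,6,2,0] (.br 0 [] [] (Bt.ofL [(270, [], (.br 0 [] [] (Bt.ofL [(178, [], (.step 0 0 [] (.leaf 212))),
 (50, [2,1,4,0,6,4,6,1,4,0,3], (.step 0 0 [] (.leaf 213)))]))),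
 (269, [4,0,3,4,6,4,6,4,2,1,4], (.br 0 [] [] (Bt.ofL [(49, [], (.step 0 0 [0,2,2,0,6,0,6,1,6,1,3,3,1] (.leaf 214))),
 (117, [2,1,4,0,6,4,6,1,4,0,3], (.step 0 0 [0,2,2,0,6,0,6,1,6,1,3,3,1] (.leaf 215)))])))])))),
 (185, [0,0,0,6,1,1,1], (.step 0 0 [0,3,3,6,3,4,0,6,2,0,2,1,4,0,6,4,6,1,4,0,3,0,3,6,3,4,1,4,1,6,2,6] (.br 0 [] [] (Bt.ofL [(210, [], (.br 0 [] [] (Bt.ofL [(197, [], (.step 0 0 [0,2,2,0,6,0,6,1,6,1,3,3,1] (.leaf 216))),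
 (93, [2,1,4,0,6,4,6,1,4,0,3], (.step 0 0 [0,2,2,0,6,0,6,1,6,1,3,3,1] (.leaf 217)))]))),
 (76, [4,0,3,4,6,4,6,4,2,1,4], (.br 0 [] [] (Bt.ofL [(158, [], (.step 0 0 [] (.leaf 218))),
 (145, [2,1,4,0,6,4,6,1,4,0,3], (.step 0 0 [] (.leaf 219)))])))])))),
 (129, [2,1,4,0,6,4,6,1,4,0,3,4,1,6,0,4], (.step 0 0 [0,3,3,6,3,4,0,6,2,0,4,0,3,4,6,4,6,4,2,1,3,6,4,6,2,4] (.br 0 [] [] (Bt.ofL [(240, [], (.br 0 [] [] (Bt.ofL [(273, [], (.step 0 0 [0,2,2,0,6,0,6,1,6,1,3,3,1] (.leaf 220))),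
 (248, [2,1,4,0,6,4,6,1,4,0,3], (.step 0 0 [0,2,2,0,6,0,6,1,6,1,3,3,1] (.leaf 221)))]))),
 (57, [4,0,3,4,6,4,6,4,2,1,4], (.br 0 [] [] (Bt.ofL [(264, [], (.step 0 0 [] (.leaf 222))),
 (104, [2,1,4,0,6,4,6,1,4,0,3], (.step 0 0 [] (.leaf 223)))])))])))),
 (181, [2,0,2,4,3,1,3], (.step 0 0 [4,3,6,4,6,2,4,0,3,3,6,3,4,0,6,2,0] (.br 0 [] [] (Bt.ofL [(269, [], (.br 0 [] [] (Bt.ofL [(178, [], (.step 0 0 [0,2,2,0,6,0,6,1,6,1,3,3,1] (.leaf 224))),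
 (99, [2,1,4,0,6,4,6,1,4,0,3], (.step 0 0 [0,2,2,0,6,0,6,1,6,1,3,3,1] (.leaf 225)))]))),
 (186, [4,0,3,4,6,4,6,4,2,1,4], (.br 0 [] [] (Bt.ofL [(194, [], (.step 0 0 [] (.leaf 226))),
 (117, [2,1,4,0,6,4,6,1,4,0,3], (.step 0 0 [] (.leaf 227)))])))])))),
 (113, [0,2,2,0,6,0,6,1,6,1,3,3,0,0,6,1,1,1], (.step 0 0 [0,3,6,3,4,1,4,1,6,2,6,4,3,6,4,6,2,4] (.br 0 [[3,4,0]] [0] (Bt.ofL [(189, [], (.br 0 [[4,3,4,3]] [0] (Bt.ofL [(157, [], (.step 0 0 [] (.leaf 228)))])))])))),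
 (236, [4,6,0,6,2,2,6,0,0,0,6,1,1,1], (.step 0 0 [0,3,6,3,4,1,4,1,6,2,6,0,3,3,6,3,4,0,6,2,0,0,3,6,3,4,1,4,1,6,2,6] (.br 0 [] [] (Bt.ofL [(228, [], (.br 0 [[4,1,4,0]] [0] (Bt.ofL [(51, [], (.step 0 0 [0,2,2,0,6,0,6,1,6,1,3,3,1] (.leaf 229)))]))),
 (170, [4,0,3,4,6,4,6,4,2,1,4], (.br 0 [[4,1,4,0]] [0] (Bt.ofL [(259, [], (.step 0 0 [] (.leaf 230)))])))]))))])))),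
 (14, [3,3], (.step 0 0 [4,1,6,0,4,6,4,6,4,6,0,6,2,2,6,1,4,0] (.br 0 [[2,0],[4,3,0]] [0,1,0,1] (Bt.ofL [(63, [], (.step 0 0 [1,3,6,1,4,2,6,2,2,1,2,1,4,0,6,4,6,1,4,0,3,0,3,6,3,4,1,4,1,6,2,6] (.br 0 [] [] (Bt.ofL [(120, [], (.br 0 [[2,0]] [0] (Bt.ofL [(197, [], (.step 0 0 [0,2,2,0,6,0,6,1,6,1,3,3,1] (.leaf 231)))]))),
 (150, [4,0,3,4,6,4,6,4,2,1,4], (.br 0 [[2,0]] [0] (Bt.ofL [(253, [], (.step 0 0 [] (.leaf 232)))])))])))),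
 (28, [4,6,0,6,2,2,6,2,0,2,4,3,1,3], (.step 0 0 [0,3,6,3,4,1,4,1,6,2,6,0,3,3,6,3,4,0,6,2,0] (.br 0 [] [] (Bt.ofL [(269, [], (.br 0 [] [] (Bt.ofL [(139, [], (.step 0 0 [] (.leaf 233))),
 (54, [2,1,4,0,6,4,6,1,4,0,3], (.step 0 0 [] (.leaf 234)))]))),
 (20, [4,0,3,4,6,4,6,4,2,1,4], (.br 0 [] [] (Bt.ofL [(46, [], (.step 0 0 [0,2,2,0,6,0,6,1,6,1,3,3,1] (.leaf 235))),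
 (71, [2,1,4,0,6,4,6,1,4,0,3], (.step 0 0 [0,2,2,0,6,0,6,1,6,1,3,3,1] (.leaf 236)))])))])))),
 (95, [2,0,2,4,3,1,3,6,3,3,6,1,6,4], (.step 0 0 [0,3,6,3,4,1,4,1,6,2,6,2,1,4,0,6,4,6,1,4,0,3,4,3,6,4,6,2,4] (.br 0 [] [] (Bt.ofL [(33, [], (.br 0 [[2,2,5,2,0]] [0] (Bt.ofL [(87, [], (.step 0 0 [0,2,2,0,6,0,6,1,6,1,3,3,1] (.leaf 237)))]))),
 (250, [4,0,3,4,6,4,6,4,2,1,4], (.br 0 [[2,2,5,2,0]] [0] (Bt.ofL [(157, [], (.step 0 0 [] (.leaf 238)))])))])))),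
 (261, [2,1,4,0,6,4,6,1,4,0,3,4,1,6,0,4], (.step 0 0 [0,3,6,3,4,1,4,1,6,2,6] (.br 0 [] [] (Bt.ofL [(269, [], (.br 0 [] [] (Bt.ofL [(163, [], (.step 0 0 [0,2,2,0,6,0,6,1,6,1,3,3,1] (.leaf 239))),
 (71, [2,1,4,0,6,4,6,1,4,0,3], (.step 0 0 [0,2,2,0,6,0,6,1,6,1,3,3,1] (.leaf 240)))]))),
 (57, [4,0,3,4,6,4,6,4,2,1,4], (.br 0 [] [] (Bt.ofL [(54, [], (.step 0 0 [] (.leaf 241))),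
 (135, [2,1,4,0,6,4,6,1,4,0,3], (.step 0 0 [] (.leaf 242)))])))])))),
 (142, [1,3,6,1,4,2,6,2,2,1,4,1,6,0,4], (.step 0 0 [1,3,6,1,4,2,6,2,2,1,2,1,4,0,6,4,6,1,4,0,3,0,3,6,3,4,1,4,1,6,2,6] (.br 0 [[4,3,3]] [0] (Bt.ofL [(60, [], (.br 0 [[0,4,4,0]] [0] (Bt.ofL [(272, [], (.step 0 0 [0,2,2,0,6,0,6,1,6,1,3,3,1] (.leaf 243)))])))])))),
 (168, [2,0,2,4,3,1,3,4,1,6,0,4], (.step 0 0 [2,1,4,0,6,4,6,1,4,0,3,0,3,6,3,4,1,4,1,6,2,6] (.br 0 [] [] (Bt.ofL [(118, [], (.br 0 [] [] (Bt.ofL [(236, [], (.step 0 0 [0,2,2,0,6,0,6,1,6,1,3,3,1] (.leaf 244))),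
 (84, [2,1,4,0,6,4,6,1,4,0,3], (.step 0 0 [0,2,2,0,6,0,6,1,6,1,3,3,1] (.leaf 245)))]))),
 (5, [4,0,3,4,6,4,6,4,2,1,4], (.br 0 [] [] (Bt.ofL [(59, [], (.step 0 0 [] (.leaf 246))),
 (231, [2,1,4,0,6,4,6,1,4,0,3], (.step 0 0 [] (.leaf 247)))])))])))),
 (25, [2,0,2,4,3,1,3], (.step 0 0 [1,3,6,1,4,2,6,2,2,1,2,1,4,0,6,4,6,1,4,0,3,0,3,6,3,4,1,4,1,6,2,6] (.br 0 [] [] (Bt.ofL [(120, [], (.br 0 [] [] (Bt.ofL [(154, [], (.step 0 0 [0,2,2,0,6,0,6,1,6,1,3,3,1] (.leaf 248))),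
 (253, [2,1,4,0,6,4,6,1,4,0,3], (.step 0 0 [0,2,2,0,6,0,6,1,6,1,3,3,1] (.leaf 249)))]))),
 (76, [4,0,3,4,6,4,6,4,2,1,4], (.br 0 [] [] (Bt.ofL [(227, [], (.step 0 0 [] (.leaf 250))),
 (93, [2,1,4,0,6,4,6,1,4,0,3], (.step 0 0 [] (.leaf 251)))])))]))))])))),
 (227, [0,2,2], (.step 0 0 [4,3,6,4,6,2,4,0,0,0,6,1,1,1,1,4,0] (.br 0 [[4,3],[5,3]] [0,1,0,0] (Bt.ofL [(164, [], (.step 0 0 [4,0,3,4,6,4,6,4,2,1,3,6,4,6,2,4,0,3,6,3,4,1,4,1,6,2,6] (.br 0 [] [] (Bt.ofL [(57, [], (.br 0 [] [] (Bt.ofL [(139, [], (.step 0 0 [] (.leaf 252))),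
 (159, [2,1,4,0,6,4,6,1,4,0,3], (.step 0 0 [] (.leaf 253)))]))),
 (239, [4,0,3,4,6,4,6,4,2,1,4], (.br 0 [] [] (Bt.ofL [(54, [], (.step 0 0 [0,2,2,0,6,0,6,1,6,1,3,3,1] (.leaf 254))),
 (185, [2,1,4,0,6,4,6,1,4,0,3], (.step 0 0 [0,2,2,0,6,0,6,1,6,1,3,3,1] (.leaf 255)))])))])))),
 (208, [2,0,2,4,3,1,3,0,0,0,6,1,1,1], (.step 0 0 [0,3,6,3,4,1,4,1,6,2,6,0,3,3,6,3,4,0,6,2,0,0,3,6,3,4,1,4,1,6,2,6] (.br 0 [] [] (Bt.ofL [(119, [], (.br 0 [] [] (Bt.ofL [(8, [], (.step 0 0 [] (.leaf 256))),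
 (224, [2,1,4,0,6,4,6,1,4,0,3], (.step 0 0 [] (.leaf 257)))]))),
 (170, [4,0,3,4,6,4,6,4,2,1,4], (.br 0 [] [] (Bt.ofL [(14, [], (.step 0 0 [0,2,2,0,6,0,6,1,6,1,3,3,1] (.leaf 258))),
 (173, [2,1,4,0,6,4,6,1,4,0,3], (.step 0 0 [0,2,2,0,6,0,6,1,6,1,3,3,1] (.leaf 259)))])))])))),
 (249, [0,0,0,6,1,1,1], (.step 0 0 [4,3,6,4,6,2,4,0,3,3,6,3,4,0,6,2,0,4,0,3,4,6,4,6,4,2,1,3,6,4,6,2,4] (.br 0 [[4,3]] [0] (Bt.ofL [(33, [], (.br 0 [[4,3,4,3]] [0] (Bt.ofL [(203, [], (.step 0 0 [0,2,2,0,6,0,6,1,6,1,3,3,1] (.leaf 260)))])))])))),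
 (126, [2,0,2,4,3,1,3,6,3,3,6,1,6,4], (.step 0 0 [0,2,2,0,6,0,6,1,6,1,3,3,1,4,3,6,4,6,2,4,0,3,6,3,4,1,4,1,6,2,6] (.br 0 [] [] (Bt.ofL [(5, [], (.br 0 [[5,3]] [0] (Bt.ofL [(10, [], (.step 0 0 [0,2,2,0,6,0,6,1,6,1,3,3,1] (.leaf 261)))]))),
 (186, [4,0,3,4,6,4,6,4,2,1,4], (.br 0 [[5,3]] [0] (Bt.ofL [(166, [], (.step 0 0 [] (.leaf 262)))])))])))),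
 (247, [4,1,6,0,4], (.step 0 0 [0,3,3,6,3,4,0,6,2,0,0,3,6,3,4,1,4,1,6,2,6] (.br 0 [] [] (Bt.ofL [(119, [], (.br 0 [] [] (Bt.ofL [(14, [], (.step 0 0 [] (.leaf 263))),
 (238, [2,1,4,0,6,4,6,1,4,0,3], (.step 0 0 [] (.leaf 264)))]))),
 (270, [4,0,3,4,6,4,6,4,2,1,4], (.br 0 [] [] (Bt.ofL [(8, [], (.step 0 0 [0,2,2,0,6,0,6,1,6,1,3,3,1] (.leaf 265))),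
 (108, [2,1,4,0,6,4,6,1,4,0,3], (.step 0 0 [0,2,2,0,6,0,6,1,6,1,3,3,1] (.leaf 266)))])))])))),
 (97, [2,0,2,4,3,1,3], (.step 0 0 [2,1,4,0,6,4,6,1,4,0,3,4,0,3,4,6,4,6,4,2,1,3,6,4,6,2,4] (.br 0 [] [] (Bt.ofL [(234, [], (.br 0 [[4,4]] [0] (Bt.ofL [(75, [], (.step 0 0 [] (.leaf 267)))]))),
 (33, [4,0,3,4,6,4,6,4,2,1,4], (.br 0 [[4,4]] [0] (Bt.ofL [(34, [], (.step 0 0 [0,2,2,0,6,0,6,1,6,1,3,3,1] (.leaf 268)))])))])))),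
 (90, [0,3,6,3,4,1,4,1,6,2,6,4,1,6,0,4], (.step 0 0 [4,3,6,4,6,2,4,0,2,2,0,6,0,6,1,6,1,3,3,1,4,3,6,4,6,2,4] (.br 0 [] [] (Bt.ofL [(270, [], (.br 0 [] [] (Bt.ofL [(14, [], (.step 0 0 [] (.leaf 269))),
 (7, [2,1,4,0,6,4,6,1,4,0,3], (.step 0 0 [] (.leaf 270)))]))),
 (170, [4,0,3,4,6,4,6,4,2,1,4], (.br 0 [] [] (Bt.ofL [(108, [], (.step 0 0 [0,2,2,0,6,0,6,1,6,1,3,3,1] (.leaf 271))),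
 (224, [2,1,4,0,6,4,6,1,4,0,3], (.step 0 0 [0,2,2,0,6,0,6,1,6,1,3,3,1] (.leaf 272)))])))]))))])))),
 (23, [3,1,4,3], (.step 0 0 [4,3,6,4,6,2,4,1,4,0] (.br 0 [[5,3],[4,3,0]] [0,1,0,1] (Bt.ofL [(142, [], (.step 0 0 [2,1,4,0,6,4,6,1,4,0,3,0,3,6,3,4,1,4,1,6,2,6,4,3,6,4,6,2,4] (.br 0 [] [] (Bt.ofL [(73, [], (.br 0 [] [] (Bt.ofL [(102, [], (.step 0 0 [0,2,2,0,6,0,6,1,6,1,3,3,1] (.leaf 273))),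
 (188, [2,1,4,0,6,4,6,1,4,0,3], (.step 0 0 [0,2,2,0,6,0,6,1,6,1,3,3,1] (.leaf 274)))]))),
 (120, [4,0,3,4,6,4,6,4,2,1,4], (.br 0 [] [] (Bt.ofL [(138, [], (.step 0 0 [] (.leaf 275))),
 (58, [2,1,4,0,6,4,6,1,4,0,3], (.step 0 0 [] (.leaf 276)))])))])))),
 (146, [4,6,0,6,2,2,6,4,1,6,0,4], (.step 0 0 [4,3,6,4,6,2,4,0,3,6,3,4,1,4,1,6,2,6] (.br 0 [] [] (Bt.ofL [(137, [], (.br 0 [] [] (Bt.ofL [(90, [], (.step 0 0 [0,2,2,0,6,0,6,1,6,1,3,3,1] (.leaf 277))),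
 (41, [2,1,4,0,6,4,6,1,4,0,3], (.step 0 0 [0,2,2,0,6,0,6,1,6,1,3,3,1] (.leaf 278)))]))),
 (94, [4,0,3,4,6,4,6,4,2,1,4], (.br 0 [] [] (Bt.ofL [(247, [], (.step 0 0 [] (.leaf 279))),
 (3, [2,1,4,0,6,4,6,1,4,0,3], (.step 0 0 [] (.leaf 280)))])))])))),
 (165, [0,0,0,6,1,1,1], (.step 0 0 [1,3,6,1,4,2,6,2,6,3,4,1,4,1,6,2,6,0,3,3,6,3,4,0,6,2,0] (.br 0 [[4,4,1]] [0] (Bt.ofL [(189, [], (.br 0 [[5,2,5,2]] [0] (Bt.ofL [(176, [], (.step 0 0 [] (.leaf 281)))])))])))),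
 (28, [2,0,2,4,3,1,3], (.step 0 0 [0,3,6,3,4,1,4,1,6,2,6,0,3,3,6,3,4,0,6,2,0,0,3,6,3,4,1,4,1,6,2,6] (.br 0 [] [] (Bt.ofL [(76, [], (.br 0 [] [] (Bt.ofL [(257, [], (.step 0 0 [0,2,2,0,6,0,6,1,6,1,3,3,1] (.leaf 282))),
 (271, [2,1,4,0,6,4,6,1,4,0,3], (.step 0 0 [0,2,2,0,6,0,6,1,6,1,3,3,1] (.leaf 283)))]))),
 (148, [4,0,3,4,6,4,6,4,2,1,4], (.br 0 [] [] (Bt.ofL [(216, [], (.step 0 0 [] (.leaf 284))),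
 (222, [2,1,4,0,6,4,6,1,4,0,3], (.step 0 0 [] (.leaf 285)))])))])))),
 (51, [6,3,3,6,1,6,4,2,0,2,4,3,1,3], (.step 0 0 [0,3,6,3,4,1,4,1,6,2,6,4,3,6,4,6,2,4] (.br 0 [] [] (Bt.ofL [(20, [], (.br 0 [] [] (Bt.ofL [(139, [], (.step 0 0 [0,2,2,0,6,0,6,1,6,1,3,3,1] (.leaf 286))),
 (135, [2,1,4,0,6,4,6,1,4,0,3], (.step 0 0 [0,2,2,0,6,0,6,1,6,1,3,3,1] (.leaf 287)))]))),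
 (96, [4,0,3,4,6,4,6,4,2,1,4], (.br 0 [] [] (Bt.ofL [(105, [], (.step 0 0 [] (.leaf 288))),
 (233, [2,1,4,0,6,4,6,1,4,0,3], (.step 0 0 [] (.leaf 289)))])))])))),
 (182, [4,0,3,4,6,4,6,4,2,1,4,0,0,0,6,1,1,1], (.step 0 0 [1,3,6,1,4,2,6,2,2,1,2,1,4,0,6,4,6,1,4,0,3,0,3,6,3,4,1,4,1,6,2,6] (.br 0 [] [] (Bt.ofL [(22, [], (.br 0 [[4,3,0]] [0] (Bt.ofL [(200, [], (.step 0 0 [] (.leaf 290)))]))),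
 (60, [4,0,3,4,6,4,6,4,2,1,4], (.br 0 [[4,3,0]] [0] (Bt.ofL [(256, [], (.step 0 0 [0,2,2,0,6,0,6,1,6,1,3,3,1] (.leaf 291)))])))])))),
 (227, [6,3,3,6,1,6,1,6,0,4], (.step 0 0 [0,3,6,3,4,1,4,1,6,2,6] (.br 0 [] [] (Bt.ofL [(118, [], (.br 0 [[5,3]] [0] (Bt.ofL [(212, [], (.step 0 0 [] (.leaf 292)))]))),
 (83, [4,0,3,4,6,4,6,4,2,1,4], (.br 0 [[5,3]] [0] (Bt.ofL [(82, [], (.step 0 0 [0,2,2,0,6,0,6,1,6,1,3,3,1] (.leaf 293)))])))]))))])))),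
 (34, [0], (.step 0 0 [0,0,0,6,1,1,1,1,4,0] (.br 0 [[5,0],[2,1]] [1,0,0,0] (Bt.ofL [(245, [], (.step 0 0 [0,3,6,3,4,1,4,1,6,2,6,4,0,3,4,6,4,6,4,2,1,4,0,3,3,6,3,4,0,6,2,0] (.br 0 [] [] (Bt.ofL [(73, [], (.br 0 [] [] (Bt.ofL [(220, [], (.step 0 0 [0,2,2,0,6,0,6,1,6,1,3,3,1] (.leaf 294))),
 (204, [2,1,4,0,6,4,6,1,4,0,3], (.step 0 0 [0,2,2,0,6,0,6,1,6,1,3,3,1] (.leaf 295)))]))),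
 (20, [4,0,3,4,6,4,6,4,2,1,4], (.br 0 [] [] (Bt.ofL [(67, [], (.step 0 0 [] (.leaf 296))),
 (205, [2,1,4,0,6,4,6,1,4,0,3], (.step 0 0 [] (.leaf 297)))])))])))),
 (38, [2,0,2,4,3,1,3], (.step 0 0 [0,3,6,3,4,1,4,1,6,2,6,0,3,3,6,3,4,0,6,2,0,0,3,6,3,4,1,4,1,6,2,6] (.br 0 [[5,0]] [0] (Bt.ofL [(120, [], (.br 0 [[5,0,5,0]] [0] (Bt.ofL [(154, [], (.step 0 0 [] (.leaf 298)))])))])))),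
 (125, [0,0,0,6,1,1,1], (.step 0 0 [4,0,3,4,6,4,6,4,2,1,4,0,3,6,3,4,1,4,1,6,2,6] (.br 0 [] [] (Bt.ofL [(170, [], (.br 0 [] [] (Bt.ofL [(52, [], (.step 0 0 [] (.leaf 299))),
 (92, [2,1,4,0,6,4,6,1,4,0,3], (.step 0 0 [] (.leaf 300)))]))),
 (119, [4,0,3,4,6,4,6,4,2,1,4], (.br 0 [] [] (Bt.ofL [(211, [], (.step 0 0 [0,2,2,0,6,0,6,1,6,1,3,3,1] (.leaf 301))),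
 (224, [2,1,4,0,6,4,6,1,4,0,3], (.step 0 0 [0,2,2,0,6,0,6,1,6,1,3,3,1] (.leaf 302)))])))])))),
 (51, [2,0,2,4,3,1,3,4,1,6,0,4], (.step 0 0 [0,2,2,0,6,0,6,1,6,1,3,3,1,4,3,6,4,6,2,4,0,3,6,3,4,1,4,1,6,2,6,4,3,6,4,6,2,4] (.br 0 [] [] (Bt.ofL [(96, [], (.br 0 [[4,4,3,0]] [0] (Bt.ofL [(18, [], (.step 0 0 [0,2,2,0,6,0,6,1,6,1,3,3,1] (.leaf 303)))]))),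
 (76, [4,0,3,4,6,4,6,4,2,1,4], (.br 0 [[4,4,3,0]] [0] (Bt.ofL [(154, [], (.step 0 0 [] (.leaf 304)))])))])))),
 (185, [2,1,4,0,6,4,6,1,4,0,3,6,3,3,6,1,6,4], (.step 0 0 [0,3,3,6,3,4,0,6,2,0,0,3,6,3,4,1,4,1,6,2,6,4,3,6,4,6,2,4] (.br 0 [] [] (Bt.ofL [(118, [], (.br 0 [[5,3,0,0]] [0] (Bt.ofL [(231, [], (.step 0 0 [0,2,2,0,6,0,6,1,6,1,3,3,1] (.leaf 305)))]))),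
 (5, [4,0,3,4,6,4,6,4,2,1,4], (.br 0 [[5,3,0,0]] [0] (Bt.ofL [(133, [], (.step 0 0 [] (.leaf 306)))])))])))),
 (268, [4,6,0,6,2,2,6,4,6,0,6,2,2,6], (.step 0 0 [1,3,6,1,4,2,6,2,6,3,4,1,4,1,6,2,6,0,3,3,6,3,4,0,6,2,0] (.br 0 [] [] (Bt.ofL [(254, [], (.br 0 [] [] (Bt.ofL [(231, [], (.step 0 0 [0,2,2,0,6,0,6,1,6,1,3,3,1] (.leaf 307))),
 (246, [2,1,4,0,6,4,6,1,4,0,3], (.step 0 0 [0,2,2,0,6,0,6,1,6,1,3,3,1] (.leaf 308)))]))),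
 (118, [4,0,3,4,6,4,6,4,2,1,4], (.br 0 [] [] (Bt.ofL [(10, [], (.step 0 0 [] (.leaf 309))),
 (212, [2,1,4,0,6,4,6,1,4,0,3], (.step 0 0 [] (.leaf 310)))])))])))),
 (111, [0,3,6,3,4,1,4,1,6,3,6,1,6,4], (.step 0 0 [4,0,3,4,6,4,6,4,2,1,4,0,3,3,6,3,4,0,6,2,0,0,3,6,3,4,1,4,1,6,2,6,4,3,6,4,6,2,4] (.br 0 [] [] (Bt.ofL [(119, [], (.br 0 [] [] (Bt.ofL [(52, [], (.step 0 0 [0,2,2,0,6,0,6,1,6,1,3,3,1] (.leaf 311))),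
 (172, [2,1,4,0,6,4,6,1,4,0,3], (.step 0 0 [0,2,2,0,6,0,6,1,6,1,3,3,1] (.leaf 312)))]))),
 (132, [4,0,3,4,6,4,6,4,2,1,4], (.br 0 [] [] (Bt.ofL [(14, [], (.step 0 0 [] (.leaf 313))),
 (224, [2,1,4,0,6,4,6,1,4,0,3], (.step 0 0 [] (.leaf 314)))])))]))))]))))]))
def hzU : List (List Nat) := [[],[4,2,2,0,6,0,3,6,1,6,2,1,6,4,3,1,4,0,3,1,6,1,1,6,0,2,4,6,4,1,2,6,3,0,4,3,0,4,0,6,0,3,6,0,6,2,1,6,1,3,3,4,0,6,2,4,6,4,1,2,6,3,0,4,3,0,4,0,4,3,1,4,0,3,1,6,1,1,6,0,6,1],[4,2,2,0,6,0,3,6,1,6,2,1,6,4,3,1,4,0,3,1,6,1,1,6,0,2,4,6,4,1,2,6,3,0,4,3,0,4,0,6,0,3,6,0,6,2,1,6,1,3,3,4,0,6,2,4,6,4,1,2,6,3,0,4,3,0,4,0,6,1,6,0,0,6,0,2,1,4,0,2,4,1],[4,2,2,0,6,0,3,6,1,6,2,1,6,4,3,1,4,0,3,1,6,1,1,6,0,2,4,6,4,1,2,6,3,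0,4,3,0,4,0,6,0,3,6,0,6,2,1,6,1,3,3,4,0,6,2,4,6,4,1,2,6,3,0,4,3,0,4],[0,6,2,4,6,4,1,2,6,3,0,4,3,0,4,0,4,3,1,4,0,3,1,6,1,1,6,0,6,1,4,2,2,0,6,0,3,6,1,6,2,1,6,1,2,1,4,0,6,4,6,1,4,0,3,0,6,0,3,6,0,6,2,1,6,1,3,3,4,2,6,1,4,1,6,0,4,0,6,3],[4,2,2,0,6,0,3,6,1,6,2,1,6,1,4,1,2,4,1,2,6,3,0,4,6,4,3,6,4,3,1,4,0,3,1,6,1,1,6,0,0,3,6,0,6,2,1,6,1,3,3,4,2,1,4,0,6,4,6,1,4,0,6,1,4,1,6,0,4,0,6,3],[4,2,2,0,6,0,3,6,1,6,2,1,6,1,4,1,2,4,1,2,6,3,0,4,6,4,3,6,4,3,1,4,0,3,1,6,1,1,6,0,0,3,6,0,6,2,1,6,1,3,3,4,2,6,1,4,1,6,0,4,0,6,3],[4,2,2,0,6,0,3,6,1,6,2,1,6,1,4,1,2,4,1,2,6,3,0,4,6,4,3,6,4,3,1,4,0,3,1,6,1,1,6,0,0,3,6,0,6,2,1,6,1,3,3,4,0,4,3,1,4,0,3,1,6,1,1,6,0,6,1,2,6,1,4,1,6,0,4,0,6,3],[4,2,2,0,6,0,3,6,1,6,2,1,6,1,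4,1,2,4,1,2,6,3,0,4,6,4,3,6,4,3,1,4,0,3,1,6,1,1,6,0,0,3,6,0,6,2,1,6,1,3,3,4,0,6,1,6,0,0,6,0,2,1,4,0,2,4,1,2,6,1,4,1,6,0,4,0,6,3],[2,1,4,0,6,4,6,1,4,0,3,0,6,2,4,6,4,1,2,6,3,0,4,3,0,4,0,6,2,4,6,4,1,2,6,3,0,4,3,0,4,0,6,2,4,6,4,1,2,6,3,0,4,3,0,4,0,4,3,1,4,0,3,1,6,1,1,6,0,6,1],[2,1,4,0,6,4,6,1,4,0,3,0,6,2,4,6,4,1,2,6,3,0,4,3,0,4,0,6,2,4,6,4,1,2,6,3,0,4,3,0,4,0,6,2,4,6,4,1,2,6,3,0,4,3,0,4,0,6,1,6,0,0,6,0,2,1,4,0,2,4,1],[2,1,4,0,6,4,6,1,4,0,3,0,6,2,4,6,4,1,2,6,3,0,4,3,0,4,0,6,2,4,6,4,1,2,6,3,0,4,3,0,4,0,6,2,4,6,4,1,2,6,3,0,4,3,0,4],[0,6,2,4,6,4,1,2,6,3,0,4,3,0,2,2,0,6,0,3,6,1,6,2,1,6,1,2,1,4,0,6,4,6,1,4,0,3,0,6,0,3,6,0,6,2,1,6,1,3,3,4,2,6,1,4,1,6,0,4,0,6,3],[2,1,4,0,6,4,6,1,4,0,3,4,1,2,4,1,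2,6,3,0,4,6,4,3,6,1,4,1,2,4,1,2,6,3,0,4,6,4,3,6,1],[2,1,4,0,6,4,6,1,4,0,3,4,1,2,4,1,2,6,3,0,4,6,4,3,6,1,4,1,2,4,1,2,6,3,0,4,6,4,3,6,1,2,1,4,0,6,4,6,1,4,0,3],[2,1,4,0,6,4,6,1,4,0,3,4,1,2,4,1,2,6,3,0,4,6,4,3,6,1,4,1,2,4,1,2,6,3,0,4,6,4,3,6,4,3,1,4,0,3,1,6,1,1,6,0,6,1],[2,1,4,0,6,4,6,1,4,0,3,4,1,2,4,1,2,6,3,0,4,6,4,3,6,1,4,1,2,4,1,2,6,3,0,4,6,4,3,1,6,0,0,6,0,2,1,4,0,2,4,1],[4,1,2,4,1,2,6,3,0,4,6,4,3,6,1,2,1,4,0,6,4,6,1,4,0,3,4,1,2,4,1,2,6,3,0,4,6,4,3,6,1,4,1,2,4,1,2,6,3,0,4,6,4,3,6,1,2,1,4,0,6,4,6,1,4,0,3],[4,1,2,4,1,2,6,3,0,4,6,4,3,6,1,2,1,4,0,6,4,6,1,4,0,3,4,1,2,4,1,2,6,3,0,4,6,4,3,6,1,4,1,2,4,1,2,6,3,0,4,6,4,3,1,6,0,0,6,0,2,1,4,0,2,4,1],[4,1,2,4,1,2,6,3,0,4,6,4,3,6,1,4,1,2,4,1,2,6,3,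0,4,6,4,3,6,4,3,1,4,0,3,1,6,1,1,6,0,2,4,6,4,1,2,6,3,0,4,3,0,4],[4,1,2,4,1,2,6,3,0,4,6,4,3,6,1,4,1,2,4,1,2,6,3,0,4,6,4,3,6,1,2,1,4,0,6,4,6,1,4,0,3,4,1,2,4,1,2,6,3,0,4,6,4,3,6,1],[4,1,2,4,1,2,6,3,0,4,6,4,3,6,1,4,1,2,4,1,2,6,3,0,4,6,4,3,6,4,3,1,4,0,3,1,6,1,1,6,0,0,3,6,0,6,2,1,6,1,3,3,4,0,6,0,3,6,0,6,2,1,6,1,3,3,4,0,4,3,1,4,0,3,1,6,1,1,6,0,6,1],[4,1,2,4,1,2,6,3,0,4,6,4,3,6,1,4,1,2,4,1,2,6,3,0,4,6,4,3,6,4,3,1,4,0,3,1,6,1,1,6,0,0,3,6,0,6,2,1,6,1,3,3,4,0,6,0,3,6,0,6,2,1,6,1,3,3,4,0,6,1,6,0,0,6,0,2,1,4,0,2,4,1],[4,1,2,4,1,2,6,3,0,4,6,4,3,6,1,4,1,2,4,1,2,6,3,0,4,6,4,3,6,4,3,1,4,0,3,1,6,1,1,6,0,0,3,6,0,6,2,1,6,1,3,3,4,0,6,0,3,6,0,6,2,1,6,1,3,3,4],[4,1,2,4,1,2,6,3,0,4,6,4,3,6,1,4,1,2,4,1,2,6,3,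0,4,6,4,3,6,4,3,1,4,0,3,1,6,1,1,6,0,0,3,6,0,6,2,1,6,1,3,3,4,0,6,0,3,6,0,6,2,1,6,1,3,3,4,2,1,4,0,6,4,6,1,4,0,3],[4,1,2,4,1,2,6,3,0,4,6,4,3,6,1,4,2,2,0,6,0,3,6,1,6,2,1,6,1,2,1,4,0,6,4,6,1,4,0,3,0,6,2,4,6,4,1,2,6,3,0,4,3,0,2,2,0,6,0,3,6,1,6,2,1,6,1,4,2,2,0,6,0,3,6,1,6,2,1,6,1,4,1,2,4,1,2,6,3,0,4,6,4,3,6,1],[0,6,2,4,6,4,1,2,6,3,0,4,3,0,4,0,4,3,1,4,0,3,1,6,1,1,6,0,6,1,4,2,2,0,6,0,3,6,1,6,2,1,6,1,2,1,4,0,6,4,6,1,4,0,3,4,1,2,4,1,2,6,3,0,4,6,4,3,6,1,2,1,4,0,6,4,6,1,4,0,3,4,2,2,0,6,0,3,6,1,6,2,1,6,1,2,1,4,0,6,4,6,1,4,0,3],[4,2,2,0,6,0,3,6,1,6,2,1,6,1,2,1,4,0,6,4,6,1,4,0,3,4,2,2,0,6,0,3,6,1,6,2,1,6,1,4,1,2,4,1,2,6,3,0,4,6,4,3,6,1,4,1,2,4,1,2,6,3,0,4,6,4,3,0,3,6,0,6,2,1,6,1,3,3,4,0,6,2,4,6,4,1,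2,6,3,0,4,3,0,4],[4,1,2,4,1,2,6,3,0,4,6,4,3,0,3,6,0,6,2,1,6,1,3,3,4,0,6,1,6,0,0,6,0,2,1,4,0,2,4,1,4,2,2,0,6,0,3,6,1,6,2,1,6,1,4,1,2,4,1,2,6,3,0,4,6,4,3,6,1,4,1,2,4,1,2,6,3,0,4,6,4,3,0,3,6,0,6,2,1,6,1,3,3,4,2,6,1,4,1,6,0,4,0,6,3],[4,2,2,0,6,0,3,6,1,6,2,1,6,1,4,2,2,0,6,0,3,6,1,6,2,1,6,1,2,1,4,0,6,4,6,1,4,0,3,0,6,0,3,6,0,6,2,1,6,1,3,3,4,0,6,2,4,6,4,1,2,6,3,0,4,3,0,4,0,6,0,3,6,0,6,2,1,6,1,3,3,1,2,4,1,2,6,3,0,4,6,4,3,6,1],[4,2,2,0,6,0,3,6,1,6,2,1,6,1,4,2,2,0,6,0,3,6,1,6,2,1,6,1,2,1,4,0,6,4,6,1,4,0,3,0,6,0,3,6,0,6,2,1,6,1,3,3,4,0,6,2,4,6,4,1,2,6,3,0,4,3,0,4,0,6,0,3,6,0,6,2,1,6,1,3,3,1,2,4,1,2,6,3,0,4,6,4,3,6,1,2,1,4,0,6,4,6,1,4,0,3],[4,1,2,4,1,2,6,3,0,4,6,4,3,6,1,4,1,2,4,1,2,6,3,0,4,6,4,3,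6,4,3,1,4,0,3,1,6,1,1,6,0,6,1,4,2,2,0,6,0,3,6,1,6,2,1,6,4,3,1,4,0,3,1,6,1,1,6,0,6,1,4,2,2,0,6,0,3,6,1,6,2,1,6,1,4,1,2,4,1,2,6,3,0,4,6,4,3,6,1],[0,6,0,3,6,0,6,2,1,6,1,3,3,4,2,1,4,0,6,4,6,1,4,0,3,4,2,2,0,6,0,3,6,1,6,2,1,1,6,0,0,6,0,2,1,4,0,2,4,1,4,2,2,0,6,0,3,6,1,6,2,1,6,1,4,1,2,4,1,2,6,3,0,4,6,4,3,6,1,2,6,1,4,1,6,0,4,0,6,3],[0,6,2,4,6,4,1,2,6,3,0,4,3,0,4,0,6,2,4,6,4,1,2,6,3,0,4,3,0,2,2,0,6,0,3,6,1,6,2,1,6,1,2,1,4,0,6,4,6,1,4,0,3,4,2,2,0,6,0,3,6,1,6,2,1,6,1,4,2,2,0,6,0,3,6,1,6,2,1,6,1,4,2,2,0,6,0,3,6,1,6,2,1,6,1],[0,6,0,3,6,0,6,2,1,6,1,3,3,4,2,1,4,0,6,4,6,1,4,0,3,4,2,2,0,6,0,3,6,1,6,2,1,1,6,0,0,6,0,2,1,4,0,2,4,1,4,2,2,0,6,0,3,6,1,6,2,1,6,1,4,1,2,4,1,2,6,3,0,4,6,4,3,1,6,0,0,6,0,2,1,4,0,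2,4,1,2,6,1,4,1,6,0,4,0,6,3],[4,2,2,0,6,0,3,6,1,6,2,1,6,1,4,1,2,4,1,2,6,3,0,4,6,4,3,6,1,2,1,4,0,6,4,6,1,4,0,3,4,2,2,0,6,0,3,6,1,6,2,1,6,1,4,1,2,4,1,2,6,3,0,4,6,4,3,6,1,2,1,4,0,6,4,6,1,4,0,6,1,4,1,6,0,4,0,6,3],[4,2,2,0,6,0,3,6,1,6,2,1,6,1,4,1,2,4,1,2,6,3,0,4,6,4,3,6,1,2,1,4,0,6,4,6,1,4,0,3,4,2,2,0,6,0,3,6,1,6,2,1,6,1,4,1,2,4,1,2,6,3,0,4,6,4,3,6,1,2,6,1,4,1,6,0,4,0,6,3],[4,2,2,0,6,0,3,6,1,6,2,1,6,1,4,1,2,4,1,2,6,3,0,4,6,4,3,6,1,2,1,4,0,6,4,6,1,4,0,3,4,2,2,0,6,0,3,6,1,6,2,1,6,1,4,1,2,4,1,2,6,3,0,4,6,4,3,6,4,3,1,4,0,3,1,6,1,1,6,0,6,1,2,6,1,4,1,6,0,4,0,6,3],[4,2,2,0,6,0,3,6,1,6,2,1,6,1,4,1,2,4,1,2,6,3,0,4,6,4,3,6,1,2,1,4,0,6,4,6,1,4,0,3,4,2,2,0,6,0,3,6,1,6,2,1,6,1,4,1,2,4,1,2,6,3,0,4,6,4,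3,1,6,0,0,6,0,2,1,4,0,2,4,1,2,6,1,4,1,6,0,4,0,6,3],[0,6,0,3,6,0,6,2,1,6,1,3,3,1,2,4,1,2,6,3,0,4,6,4,3,1,6,0,0,6,0,2,1,4,0,2,4,1,4,2,2,0,6,0,3,6,1,6,2,1,1,6,0,0,6,0,2,1,4,0,2,4,1,4,2,2,0,6,0,3,6,1,6,2,1,6,1,2,6,1,4,1,6,0,4,0,6,3],[0,4,3,1,4,0,3,1,6,1,1,6,0,6,1,4,2,2,0,6,0,3,6,1,6,2,1,2,4,6,4,1,2,6,3,0,4,3,0,4,0,6,0,3,6,0,6,2,1,6,1,3,3,4,0,6,0,3,6,0,6,2,1,6,1,3,3,4,0,6,2,4,6,4,1,2,6,3,0,4,3,0,4],[0,6,1,6,0,0,6,0,2,1,4,0,2,4,6,0,3,6,0,6,2,1,6,1,3,3,1,2,4,1,2,6,3,0,4,6,4,3,0,3,6,0,6,2,1,6,1,3,3,1,2,4,1,2,6,3,0,4,6,4,3,6,1,4,2,2,0,6,0,3,6,1,6,2,1,6,1],[0,6,1,6,0,0,6,0,2,1,4,0,2,4,6,0,3,6,0,6,2,1,6,1,3,3,1,2,4,1,2,6,3,0,4,6,4,3,0,3,6,0,6,2,1,6,1,3,3,1,2,4,1,2,6,3,0,4,6,4,3,6,1,4,2,2,0,6,0,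3,6,1,6,2,1,6,1,2,1,4,0,6,4,6,1,4,0,3],[0,6,2,4,6,4,1,2,6,3,0,4,3,0,4,0,6,0,3,6,0,6,2,1,6,1,3,3,4,0,6,0,3,6,0,6,2,1,6,1,3,3,4,0,6,0,3,6,0,6,2,1,6,1,3,3,4,0,6,1,6,0,0,6,0,2,1,4,0,2,4,6,0,3,6,0,6,2,1,6,1,3,3,1,2,4,1,2,6,3,0,4,6,4,3,6,1],[0,4,3,1,4,0,3,1,6,1,1,6,0,6,1,4,2,2,0,6,0,3,6,1,6,2,1,6,4,3,1,4,0,3,1,6,1,1,6,0,0,3,6,0,6,2,1,6,1,3,3,4,0,6,2,4,6,4,1,2,6,3,0,4,3,0,4,0,4,3,1,4,0,3,1,6,1,1,6,0,6,1,4,2,2,0,6,0,3,6,1,6,2,1,6,1],[4,1,2,4,1,2,6,3,0,4,6,4,3,6,1,4,1,2,4,1,2,6,3,0,4,6,4,3,6,1,4,1,2,4,1,2,6,3,0,4,6,4,3,6,1,2,1,4,0,6,4,6,1,4,0,3,0,6,0,3,6,0,6,2,1,6,1,3,3,4,0,6,0,3,6,0,6,2,1,6,1,3,3,4,0,6,2,4,6,4,1,2,6,3,0,4,3,0,4],[0,6,0,3,6,0,6,2,1,6,1,3,3,4,0,6,0,3,6,0,6,2,1,6,1,3,3,4,0,6,1,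6,0,0,6,0,2,1,4,0,2,4,6,0,3,6,0,6,2,1,6,1,3,3,4,0,4,3,1,4,0,3,1,6,1,1,6,0,0,3,6,0,6,2,1,6,1,3,3,4,0,6,0,3,6,0,6,2,1,6,1,3,3,4],[4,1,2,4,1,2,6,3,0,4,6,4,3,6,1,4,1,2,4,1,2,6,3,0,4,6,4,3,6,1,4,1,2,4,1,2,6,3,0,4,6,4,3,6,1,2,1,4,0,6,4,6,1,4,0,3,0,6,0,3,6,0,6,2,1,6,1,3,3,4,0,6,0,3,6,0,6,2,1,6,1,3,3,4,0,6,2,4,6,4,1,2,6,3,0,4,3,0,4,0,4,3,1,4,0,3,1,6,1,1,6,0,6,1],[0,6,0,3,6,0,6,2,1,6,1,3,3,4,0,6,1,6,0,0,6,0,2,1,4,0,2,4,1,4,1,2,4,1,2,6,3,0,4,6,4,3,6,1,2,1,4,0,6,4,6,1,4,0,3,0,6,0,3,6,0,6,2,1,6,1,3,3,4,0,6,1,6,0,0,6,0,2,1,4,0,2,4,1,4,2,2,0,6,0,3,6,1,6,2,1,6,1,2,6,1,4,1,6,0,4,0,6,3],[4,1,2,4,1,2,6,3,0,4,6,4,3,0,3,6,0,6,2,1,6,1,3,3,4,0,6,2,4,6,4,1,2,6,3,0,4,3,0,4,0,4,3,1,4,0,3,1,6,1,1,6,0,6,1,4,2,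2,0,6,0,3,6,1,6,2,1,2,4,6,4,1,2,6,3,0,4,3,0,4,0,4,3,1,4,0,3,1,6,1,1,6,0,6,1],[4,1,2,4,1,2,6,3,0,4,6,4,3,0,3,6,0,6,2,1,6,1,3,3,4,0,6,2,4,6,4,1,2,6,3,0,4,3,0,4,0,4,3,1,4,0,3,1,6,1,1,6,0,6,1,4,2,2,0,6,0,3,6,1,6,2,1,2,4,6,4,1,2,6,3,0,4,3,0,4,0,6,1,6,0,0,6,0,2,1,4,0,2,4,1],[4,1,2,4,1,2,6,3,0,4,6,4,3,0,3,6,0,6,2,1,6,1,3,3,4,0,6,2,4,6,4,1,2,6,3,0,4,3,0,4,0,4,3,1,4,0,3,1,6,1,1,6,0,6,1,4,2,2,0,6,0,3,6,1,6,2,1,2,4,6,4,1,2,6,3,0,4,3,0,4],[4,1,2,4,1,2,6,3,0,4,6,4,3,0,3,6,0,6,2,1,6,1,3,3,4,0,6,2,4,6,4,1,2,6,3,0,4,3,0,4,0,4,3,1,4,0,3,1,6,1,1,6,0,6,1,4,2,2,0,6,0,3,6,1,6,2,1,2,4,6,4,1,2,6,3,0,4,3,0,4,2,1,4,0,6,4,6,1,4,0,3],[4,2,2,0,6,0,3,6,1,6,2,1,6,1,4,2,2,0,6,0,3,6,1,6,2,1,6,1,2,1,4,0,6,4,6,1,4,0,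3,0,6,0,3,6,0,6,2,1,6,1,3,3,4,0,6,1,6,0,0,6,0,2,1,4,0,2,4,6,0,3,6,0,6,2,1,6,1,3,3,4,0,6,2,4,6,4,1,2,6,3,0,4,3,0,4],[0,4,3,1,4,0,3,1,6,1,1,6,0,6,1,4,2,2,0,6,0,3,6,1,6,2,1,2,4,6,4,1,2,6,3,0,4,3,0,4,0,6,0,3,6,0,6,2,1,6,1,3,3,4,0,6,0,3,6,0,6,2,1,6,1,3,3,4,0,4,3,1,4,0,3,1,6,1,1,6,0,2,4,6,4,1,2,6,3,0,4,3,0,4],[0,4,3,1,4,0,3,1,6,1,1,6,0,6,1,4,2,2,0,6,0,3,6,1,6,2,1,2,4,6,4,1,2,6,3,0,4,3,0,4,0,6,0,3,6,0,6,2,1,6,1,3,3,4,0,6,0,3,6,0,6,2,1,6,1,3,3,4,2,1,4,0,6,4,6,1,4,0,3,4,1,2,4,1,2,6,3,0,4,6,4,3,6,1],[4,2,2,0,6,0,3,6,1,6,2,1,6,1,2,1,4,0,6,4,6,1,4,0,3,4,1,2,4,1,2,6,3,0,4,6,4,3,6,1,2,1,4,0,6,4,6,1,4,0,3,0,6,0,3,6,0,6,2,1,6,1,3,3,4,2,1,4,0,6,4,6,1,4,0,3,4,2,2,0,6,0,3,6,1,6,2,1,6,1,2,6,1,4,1,6,0,4,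0,6,3],[0,6,1,6,0,0,6,0,2,1,4,0,2,4,6,0,3,6,0,6,2,1,6,1,3,3,4,0,6,0,3,6,0,6,2,1,6,1,3,3,4,0,6,2,4,6,4,1,2,6,3,0,4,3,0,2,2,0,6,0,3,6,1,6,2,1,6,1,2,1,4,0,6,4,6,1,4,0,6,1,4,1,6,0,4,0,6,3],[0,6,1,6,0,0,6,0,2,1,4,0,2,4,6,0,3,6,0,6,2,1,6,1,3,3,4,0,6,0,3,6,0,6,2,1,6,1,3,3,4,0,6,2,4,6,4,1,2,6,3,0,4,3,0,2,2,0,6,0,3,6,1,6,2,1,6,1,2,6,1,4,1,6,0,4,0,6,3],[0,6,1,6,0,0,6,0,2,1,4,0,2,4,6,0,3,6,0,6,2,1,6,1,3,3,4,0,6,0,3,6,0,6,2,1,6,1,3,3,4,0,6,2,4,6,4,1,2,6,3,0,4,3,0,2,2,0,6,0,3,6,1,6,2,1,6,4,3,1,4,0,3,1,6,1,1,6,0,6,1,2,6,1,4,1,6,0,4,0,6,3],[0,6,1,6,0,0,6,0,2,1,4,0,2,4,6,0,3,6,0,6,2,1,6,1,3,3,4,0,6,0,3,6,0,6,2,1,6,1,3,3,4,0,6,2,4,6,4,1,2,6,3,0,4,3,0,2,2,0,6,0,3,6,1,6,2,1,1,6,0,0,6,0,2,1,4,0,2,4,1,2,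6,1,4,1,6,0,4,0,6,3],[0,6,0,3,6,0,6,2,1,6,1,3,3,1,2,4,1,2,6,3,0,4,6,4,3,6,1,4,2,2,0,6,0,3,6,1,6,2,1,6,1,4,1,2,4,1,2,6,3,0,4,6,4,3,6,1,4,2,2,0,6,0,3,6,1,6,2,1,1,6,0,0,6,0,2,1,4,0,2,4,6,0,3,6,0,6,2,1,6,1,3,3,4],[4,2,2,0,6,0,3,6,1,6,2,1,2,4,6,4,1,2,6,3,0,4,3,0,4,0,6,1,6,0,0,6,0,2,1,4,0,2,4,1,4,1,2,4,1,2,6,3,0,4,6,4,3,6,1,2,1,4,0,6,4,6,1,4,0,3,4,2,2,0,6,0,3,6,1,6,2,1,2,4,6,4,1,2,6,3,0,4,3,0,4],[0,6,1,6,0,0,6,0,2,1,4,0,2,4,6,0,3,6,0,6,2,1,6,1,3,3,1,2,4,1,2,6,3,0,4,6,4,3,0,3,6,0,6,2,1,6,1,3,3,4,0,6,0,3,6,0,6,2,1,6,1,3,3,4,0,6,0,3,6,0,6,2,1,6,1,3,3,4,2,1,4,0,6,4,6,1,4,0,3],[0,6,1,6,0,0,6,0,2,1,4,0,2,4,6,0,3,6,0,6,2,1,6,1,3,3,1,2,4,1,2,6,3,0,4,6,4,3,0,3,6,0,6,2,1,6,1,3,3,4,0,6,0,3,6,0,6,2,1,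6,1,3,3,4,0,6,0,3,6,0,6,2,1,6,1,3,3,4],[0,6,2,4,6,4,1,2,6,3,0,4,3,0,2,2,0,6,0,3,6,1,6,2,1,6,1,4,2,2,0,6,0,3,6,1,6,2,1,2,4,6,4,1,2,6,3,0,4,3,0,4,0,6,2,4,6,4,1,2,6,3,0,4,3,0,4,0,6,0,3,6,0,6,2,1,6,1,3,3,4,2,6,1,4,1,6,0,4,0,6,3],[0,6,1,6,0,0,6,0,2,1,4,0,2,4,6,0,3,6,0,6,2,1,6,1,3,3,1,2,4,1,2,6,3,0,4,6,4,3,0,3,6,0,6,2,1,6,1,3,3,4,0,6,0,3,6,0,6,2,1,6,1,3,3,4,0,6,0,3,6,0,6,2,1,6,1,3,3,4,0,4,3,1,4,0,3,1,6,1,1,6,0,6,1],[0,6,2,4,6,4,1,2,6,3,0,4,3,0,4,2,1,4,0,6,4,6,1,4,0,3,0,6,0,3,6,0,6,2,1,6,1,3,3,1,2,4,1,2,6,3,0,4,6,4,3,6,4,3,1,4,0,3,1,6,1,1,6,0,6,1,4,2,2,0,6,0,3,6,1,6,2,1,6,1],[0,4,3,1,4,0,3,1,6,1,1,6,0,0,3,6,0,6,2,1,6,1,3,3,4,0,6,1,6,0,0,6,0,2,1,4,0,2,4,1,4,1,2,4,1,2,6,3,0,4,6,4,3,6,1,2,1,4,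0,6,4,6,1,4,0,3,4,2,2,0,6,0,3,6,1,6,2,1,6,1,2,6,1,4,1,6,0,4,0,6,3],[0,6,2,4,6,4,1,2,6,3,0,4,3,0,4,2,1,4,0,6,4,6,1,4,0,3,0,6,0,3,6,0,6,2,1,6,1,3,3,1,2,4,1,2,6,3,0,4,6,4,3,6,4,3,1,4,0,3,1,6,1,1,6,0,6,1,4,2,2,0,6,0,3,6,1,6,2,1,1,6,0,0,6,0,2,1,4,0,2,4,1],[0,6,2,4,6,4,1,2,6,3,0,4,3,0,4,2,1,4,0,6,4,6,1,4,0,3,0,6,0,3,6,0,6,2,1,6,1,3,3,1,2,4,1,2,6,3,0,4,6,4,3,6,4,3,1,4,0,3,1,6,1,1,6,0,6,1,4,2,2,0,6,0,3,6,1,6,2,1,6,4,3,1,4,0,3,1,6,1,1,6,0,6,1],[0,6,2,4,6,4,1,2,6,3,0,4,3,0,2,2,0,6,0,3,6,1,6,2,1,6,1,4,2,2,0,6,0,3,6,1,6,2,1,2,4,6,4,1,2,6,3,0,4,3,0,4,0,4,3,1,4,0,3,1,6,1,1,6,0,0,3,6,0,6,2,1,6,1,3,3,4,2,1,4,0,6,4,6,1,4,0,3],[0,6,2,4,6,4,1,2,6,3,0,4,3,0,2,2,0,6,0,3,6,1,6,2,1,6,1,4,2,2,0,6,0,3,6,1,6,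2,1,2,4,6,4,1,2,6,3,0,4,3,0,4,0,4,3,1,4,0,3,1,6,1,1,6,0,0,3,6,0,6,2,1,6,1,3,3,4],[0,6,1,6,0,0,6,0,2,1,4,0,2,4,1,4,1,2,4,1,2,6,3,0,4,6,4,3,0,3,6,0,6,2,1,6,1,3,3,4,2,1,4,0,6,4,6,1,4,0,3,4,1,2,4,1,2,6,3,0,4,6,4,3,0,3,6,0,6,2,1,6,1,3,3,4],[0,6,1,6,0,0,6,0,2,1,4,0,2,4,1,4,1,2,4,1,2,6,3,0,4,6,4,3,0,3,6,0,6,2,1,6,1,3,3,4,2,1,4,0,6,4,6,1,4,0,3,4,1,2,4,1,2,6,3,0,4,6,4,3,0,3,6,0,6,2,1,6,1,3,3,4,2,1,4,0,6,4,6,1,4,0,3],[0,6,1,6,0,0,6,0,2,1,4,0,2,4,1,4,2,2,0,6,0,3,6,1,6,2,1,1,6,0,0,6,0,2,1,4,0,2,4,1,4,1,2,4,1,2,6,3,0,4,6,4,3,0,3,6,0,6,2,1,6,1,3,3,4,2,1,4,0,6,4,6,1,4,0,3,0,6,0,3,6,0,6,2,1,6,1,3,3,4],[4,1,2,4,1,2,6,3,0,4,6,4,3,6,1,4,2,2,0,6,0,3,6,1,6,2,1,6,1,4,1,2,4,1,2,6,3,0,4,6,4,3,6,1,4,1,2,4,1,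2,6,3,0,4,6,4,3,0,3,6,0,6,2,1,6,1,3,3,4,0,6,0,3,6,0,6,2,1,6,1,3,3,1,2,4,1,2,6,3,0,4,6,4,3,6,1],[2,1,4,0,6,4,6,1,4,0,3,4,1,2,4,1,2,6,3,0,4,6,4,3,0,3,6,0,6,2,1,6,1,3,3,1,2,4,1,2,6,3,0,4,6,4,3,0,3,6,0,6,2,1,6,1,3,3,4,0,6,1,6,0,0,6,0,2,1,4,0,2,4,1,4,2,2,0,6,0,3,6,1,6,2,1,6,1],[0,6,1,6,0,0,6,0,2,1,4,0,2,4,6,0,3,6,0,6,2,1,6,1,3,3,1,2,4,1,2,6,3,0,4,6,4,3,0,3,6,0,6,2,1,6,1,3,3,4,0,6,0,3,6,0,6,2,1,6,1,3,3,4,0,6,0,3,6,0,6,2,1,6,1,3,3,1,2,4,1,2,6,3,0,4,6,4,3,6,1],[4,1,2,4,1,2,6,3,0,4,6,4,3,0,3,6,0,6,2,1,6,1,3,3,4,0,6,2,4,6,4,1,2,6,3,0,4,3,0,4,0,6,0,3,6,0,6,2,1,6,1,3,3,4,2,1,4,0,6,4,6,1,4,0,3,4,2,2,0,6,0,3,6,1,6,2,1,6,1,2,6,1,4,1,6,0,4,0,6,3],[0,6,2,4,6,4,1,2,6,3,0,4,3,0,2,2,0,6,0,3,6,1,6,2,1,6,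1,4,2,2,0,6,0,3,6,1,6,2,1,6,1,4,1,2,4,1,2,6,3,0,4,6,4,3,6,1,4,1,2,4,1,2,6,3,0,4,6,4,3,6,1,4,2,2,0,6,0,3,6,1,6,2,1,1,6,0,0,6,0,2,1,4,0,2,4,1],[0,6,2,4,6,4,1,2,6,3,0,4,3,0,2,2,0,6,0,3,6,1,6,2,1,6,1,4,2,2,0,6,0,3,6,1,6,2,1,6,1,4,1,2,4,1,2,6,3,0,4,6,4,3,6,1,4,1,2,4,1,2,6,3,0,4,6,4,3,6,1,4,2,2,0,6,0,3,6,1,6,2,1,6,1,2,1,4,0,6,4,6,1,4,0,3],[0,6,2,4,6,4,1,2,6,3,0,4,3,0,2,2,0,6,0,3,6,1,6,2,1,6,1,4,2,2,0,6,0,3,6,1,6,2,1,6,1,4,1,2,4,1,2,6,3,0,4,6,4,3,6,1,4,1,2,4,1,2,6,3,0,4,6,4,3,6,1,4,2,2,0,6,0,3,6,1,6,2,1,6,1],[2,1,4,0,6,4,6,1,4,0,3,4,2,2,0,6,0,3,6,1,6,2,1,2,4,6,4,1,2,6,3,0,4,3,0,4,2,1,4,0,6,4,6,1,4,0,3,4,2,2,0,6,0,3,6,1,6,2,1,6,1,4,1,2,4,1,2,6,3,0,4,6,4,3,6,4,3,1,4,0,3,1,6,1,1,6,0,6,1,2,6,1,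4,1,6,0,4,0,6,3],[0,6,1,6,0,0,6,0,2,1,4,0,2,4,6,0,3,6,0,6,2,1,6,1,3,3,1,2,4,1,2,6,3,0,4,6,4,3,0,3,6,0,6,2,1,6,1,3,3,4,0,6,0,3,6,0,6,2,1,6,1,3,3,4,0,6,0,3,6,0,6,2,1,6,1,3,3,4,0,6,2,4,6,4,1,2,6,3,0,4,3,0,4],[2,1,4,0,6,4,6,1,4,0,3,4,2,2,0,6,0,3,6,1,6,2,1,2,4,6,4,1,2,6,3,0,4,3,0,4,2,1,4,0,6,4,6,1,4,0,3,4,2,2,0,6,0,3,6,1,6,2,1,6,1,4,1,2,4,1,2,6,3,0,4,6,4,3,6,1,2,6,1,4,1,6,0,4,0,6,3],[2,1,4,0,6,4,6,1,4,0,3,4,2,2,0,6,0,3,6,1,6,2,1,2,4,6,4,1,2,6,3,0,4,3,0,4,2,1,4,0,6,4,6,1,4,0,3,4,2,2,0,6,0,3,6,1,6,2,1,6,1,4,1,2,4,1,2,6,3,0,4,6,4,3,6,1,2,1,4,0,6,4,6,1,4,0,6,1,4,1,6,0,4,0,6,3],[0,6,0,3,6,0,6,2,1,6,1,3,3,4,2,1,4,0,6,4,6,1,4,0,3,4,2,2,0,6,0,3,6,1,6,2,1,2,4,6,4,1,2,6,3,0,4,3,0,4,0,6,0,3,6,0,6,2,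1,6,1,3,3,4,0,6,0,3,6,0,6,2,1,6,1,3,3,4,2,1,4,0,6,4,6,1,4,0,3],[0,6,0,3,6,0,6,2,1,6,1,3,3,4,2,1,4,0,6,4,6,1,4,0,3,4,2,2,0,6,0,3,6,1,6,2,1,2,4,6,4,1,2,6,3,0,4,3,0,4,0,6,0,3,6,0,6,2,1,6,1,3,3,4,0,6,0,3,6,0,6,2,1,6,1,3,3,4],[4,1,2,4,1,2,6,3,0,4,6,4,3,1,6,0,0,6,0,2,1,4,0,2,4,1,4,2,2,0,6,0,3,6,1,6,2,1,2,4,6,4,1,2,6,3,0,4,3,0,4,2,1,4,0,6,4,6,1,4,0,3,4,2,2,0,6,0,3,6,1,6,2,1,6,1,2,1,4,0,6,4,6,1,4,0,3],[4,1,2,4,1,2,6,3,0,4,6,4,3,1,6,0,0,6,0,2,1,4,0,2,4,1,4,2,2,0,6,0,3,6,1,6,2,1,2,4,6,4,1,2,6,3,0,4,3,0,4,2,1,4,0,6,4,6,1,4,0,3,4,2,2,0,6,0,3,6,1,6,2,1,6,1],[4,2,2,0,6,0,3,6,1,6,2,1,6,4,3,1,4,0,3,1,6,1,1,6,0,2,4,6,4,1,2,6,3,0,4,3,0,2,2,0,6,0,3,6,1,6,2,1,1,6,0,0,6,0,2,1,4,0,2,4,1,4,2,2,0,6,0,3,6,1,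6,2,1,6,1,2,6,1,4,1,6,0,4,0,6,3],[4,2,2,0,6,0,3,6,1,6,2,1,6,4,3,1,4,0,3,1,6,1,1,6,0,2,4,6,4,1,2,6,3,0,4,3,0,2,2,0,6,0,3,6,1,6,2,1,1,6,0,0,6,0,2,1,4,0,2,4,1,4,2,2,0,6,0,3,6,1,6,2,1,6,1,2,1,4,0,6,4,6,1,4,0,6,1,4,1,6,0,4,0,6,3],[4,2,2,0,6,0,3,6,1,6,2,1,6,4,3,1,4,0,3,1,6,1,1,6,0,2,4,6,4,1,2,6,3,0,4,3,0,2,2,0,6,0,3,6,1,6,2,1,1,6,0,0,6,0,2,1,4,0,2,4,1,4,2,2,0,6,0,3,6,1,6,2,1,1,6,0,0,6,0,2,1,4,0,2,4,1,2,6,1,4,1,6,0,4,0,6,3],[4,2,2,0,6,0,3,6,1,6,2,1,6,4,3,1,4,0,3,1,6,1,1,6,0,2,4,6,4,1,2,6,3,0,4,3,0,2,2,0,6,0,3,6,1,6,2,1,1,6,0,0,6,0,2,1,4,0,2,4,1,4,2,2,0,6,0,3,6,1,6,2,1,6,4,3,1,4,0,3,1,6,1,1,6,0,6,1,2,6,1,4,1,6,0,4,0,6,3],[0,6,1,6,0,0,6,0,2,1,4,0,2,4,6,0,3,6,0,6,2,1,6,1,3,3,1,2,4,1,2,6,3,0,4,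6,4,3,6,4,3,1,4,0,3,1,6,1,1,6,0,6,1,4,2,2,0,6,0,3,6,1,6,2,1,2,4,6,4,1,2,6,3,0,4,3,0,4,0,6,2,4,6,4,1,2,6,3,0,4,3,0,4],[0,4,3,1,4,0,3,1,6,1,1,6,0,2,4,6,4,1,2,6,3,0,4,3,0,2,2,0,6,0,3,6,1,6,2,1,2,4,6,4,1,2,6,3,0,4,3,0,4,0,6,2,4,6,4,1,2,6,3,0,4,3,0,4,0,4,3,1,4,0,3,1,6,1,1,6,0,6,1,4,2,2,0,6,0,3,6,1,6,2,1,6,1],[4,2,2,0,6,0,3,6,1,6,2,1,6,4,3,1,4,0,3,1,6,1,1,6,0,0,3,6,0,6,2,1,6,1,3,3,4,0,6,0,3,6,0,6,2,1,6,1,3,3,4,0,6,0,3,6,0,6,2,1,6,1,3,3,4,0,6,1,6,0,0,6,0,2,1,4,0,2,4,6,0,3,6,0,6,2,1,6,1,3,3,4],[4,2,2,0,6,0,3,6,1,6,2,1,6,1,4,2,2,0,6,0,3,6,1,6,2,1,6,1,4,2,2,0,6,0,3,6,1,6,2,1,2,4,6,4,1,2,6,3,0,4,3,0,2,2,0,6,0,3,6,1,6,2,1,6,1,4,1,2,4,1,2,6,3,0,4,6,4,3,6,1,4,1,2,4,1,2,6,3,0,4,6,4,3,6,1],[4,2,2,0,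6,0,3,6,1,6,2,1,6,1,4,2,2,0,6,0,3,6,1,6,2,1,6,1,4,2,2,0,6,0,3,6,1,6,2,1,2,4,6,4,1,2,6,3,0,4,3,0,2,2,0,6,0,3,6,1,6,2,1,2,4,6,4,1,2,6,3,0,4,3,0,4,2,1,4,0,6,4,6,1,4,0,3],[4,2,2,0,6,0,3,6,1,6,2,1,6,1,4,2,2,0,6,0,3,6,1,6,2,1,6,1,4,2,2,0,6,0,3,6,1,6,2,1,2,4,6,4,1,2,6,3,0,4,3,0,2,2,0,6,0,3,6,1,6,2,1,2,4,6,4,1,2,6,3,0,4,3,0,4],[4,2,2,0,6,0,3,6,1,6,2,1,6,1,2,1,4,0,6,4,6,1,4,0,3,4,2,2,0,6,0,3,6,1,6,2,1,6,1,4,2,2,0,6,0,3,6,1,6,2,1,2,4,6,4,1,2,6,3,0,4,3,0,2,2,0,6,0,3,6,1,6,2,1,6,1,2,1,4,0,6,4,6,1,4,0,3],[4,2,2,0,6,0,3,6,1,6,2,1,6,1,2,1,4,0,6,4,6,1,4,0,3,4,2,2,0,6,0,3,6,1,6,2,1,6,1,4,2,2,0,6,0,3,6,1,6,2,1,2,4,6,4,1,2,6,3,0,4,3,0,2,2,0,6,0,3,6,1,6,2,1,6,1],[4,1,2,4,1,2,6,3,0,4,6,4,3,0,3,6,0,6,2,1,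6,1,3,3,4,0,6,1,6,0,0,6,0,2,1,4,0,2,4,1,4,1,2,4,1,2,6,3,0,4,6,4,3,6,1,4,1,2,4,1,2,6,3,0,4,6,4,3,0,3,6,0,6,2,1,6,1,3,3,4],[0,6,1,6,0,0,6,0,2,1,4,0,2,4,6,0,3,6,0,6,2,1,6,1,3,3,4,0,6,1,6,0,0,6,0,2,1,4,0,2,4,1,4,1,2,4,1,2,6,3,0,4,6,4,3,6,1,4,1,2,4,1,2,6,3,0,4,6,4,3,0,3,6,0,6,2,1,6,1,3,3,4,2,6,1,4,1,6,0,4,0,6,3],[4,1,2,4,1,2,6,3,0,4,6,4,3,0,3,6,0,6,2,1,6,1,3,3,4,0,6,1,6,0,0,6,0,2,1,4,0,2,4,1,4,1,2,4,1,2,6,3,0,4,6,4,3,6,1,4,1,2,4,1,2,6,3,0,4,6,4,3,0,3,6,0,6,2,1,6,1,3,3,4,0,4,3,1,4,0,3,1,6,1,1,6,0,6,1],[4,1,2,4,1,2,6,3,0,4,6,4,3,0,3,6,0,6,2,1,6,1,3,3,4,0,6,1,6,0,0,6,0,2,1,4,0,2,4,1,4,1,2,4,1,2,6,3,0,4,6,4,3,6,1,4,1,2,4,1,2,6,3,0,4,6,4,3,0,3,6,0,6,2,1,6,1,3,3,4,0,6,1,6,0,0,6,0,2,1,4,0,2,4,1]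,[0,6,0,3,6,0,6,2,1,6,1,3,3,4,0,6,2,4,6,4,1,2,6,3,0,4,3,0,4,2,1,4,0,6,4,6,1,4,0,3,0,6,2,4,6,4,1,2,6,3,0,4,3,0,2,2,0,6,0,3,6,1,6,2,1,6,4,3,1,4,0,3,1,6,1,1,6,0,6,1,4,2,2,0,6,0,3,6,1,6,2,1,6,1],[4,1,2,4,1,2,6,3,0,4,6,4,3,6,1,4,1,2,4,1,2,6,3,0,4,6,4,3,6,1,2,1,4,0,6,4,6,1,4,0,3,4,2,2,0,6,0,3,6,1,6,2,1,6,1,4,2,2,0,6,0,3,6,1,6,2,1,1,6,0,0,6,0,2,1,4,0,2,4,1,4,2,2,0,6,0,3,6,1,6,2,1,6,1],[0,6,2,4,6,4,1,2,6,3,0,4,3,0,4,0,6,0,3,6,0,6,2,1,6,1,3,3,4,2,1,4,0,6,4,6,1,4,0,3,0,6,2,4,6,4,1,2,6,3,0,4,3,0,2,2,0,6,0,3,6,1,6,2,1,6,1,4,2,2,0,6,0,3,6,1,6,2,1,6,1,4,2,2,0,6,0,3,6,1,6,2,1,6,1],[0,6,1,6,0,0,6,0,2,1,4,0,2,4,6,0,3,6,0,6,2,1,6,1,3,3,4,0,6,2,4,6,4,1,2,6,3,0,4,3,0,4,0,6,0,3,6,0,6,2,1,6,1,3,3,4,2,1,4,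0,6,4,6,1,4,0,3,4,2,2,0,6,0,3,6,1,6,2,1,2,4,6,4,1,2,6,3,0,4,3,0,4],[0,4,3,1,4,0,3,1,6,1,1,6,0,0,3,6,0,6,2,1,6,1,3,3,1,2,4,1,2,6,3,0,4,6,4,3,6,1,4,1,2,4,1,2,6,3,0,4,6,4,3,6,1,2,1,4,0,6,4,6,1,4,0,3,4,2,2,0,6,0,3,6,1,6,2,1,6,1],[0,6,2,4,6,4,1,2,6,3,0,4,3,0,4,0,6,0,3,6,0,6,2,1,6,1,3,3,1,2,4,1,2,6,3,0,4,6,4,3,6,1,4,1,2,4,1,2,6,3,0,4,6,4,3,6,1,2,1,4,0,6,4,6,1,4,0,3,4,2,2,0,6,0,3,6,1,6,2,1,6,1],[0,6,1,6,0,0,6,0,2,1,4,0,2,4,6,0,3,6,0,6,2,1,6,1,3,3,1,2,4,1,2,6,3,0,4,6,4,3,6,4,3,1,4,0,3,1,6,1,1,6,0,6,1,4,2,2,0,6,0,3,6,1,6,2,1,6,1,4,1,2,4,1,2,6,3,0,4,6,4,3,6,1,2,1,4,0,6,4,6,1,4,0,3],[0,6,1,6,0,0,6,0,2,1,4,0,2,4,6,0,3,6,0,6,2,1,6,1,3,3,1,2,4,1,2,6,3,0,4,6,4,3,6,4,3,1,4,0,3,1,6,1,1,6,0,6,1,4,2,2,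0,6,0,3,6,1,6,2,1,6,1,4,1,2,4,1,2,6,3,0,4,6,4,3,6,1],[4,1,2,4,1,2,6,3,0,4,6,4,3,0,3,6,0,6,2,1,6,1,3,3,1,2,4,1,2,6,3,0,4,6,4,3,6,4,3,1,4,0,3,1,6,1,1,6,0,6,1,4,2,2,0,6,0,3,6,1,6,2,1,6,1,2,1,4,0,6,4,6,1,4,0,6,1,4,1,6,0,4,0,6,3],[4,1,2,4,1,2,6,3,0,4,6,4,3,0,3,6,0,6,2,1,6,1,3,3,1,2,4,1,2,6,3,0,4,6,4,3,6,4,3,1,4,0,3,1,6,1,1,6,0,6,1,4,2,2,0,6,0,3,6,1,6,2,1,6,1,2,6,1,4,1,6,0,4,0,6,3],[4,1,2,4,1,2,6,3,0,4,6,4,3,0,3,6,0,6,2,1,6,1,3,3,1,2,4,1,2,6,3,0,4,6,4,3,6,4,3,1,4,0,3,1,6,1,1,6,0,6,1,4,2,2,0,6,0,3,6,1,6,2,1,1,6,0,0,6,0,2,1,4,0,2,4,1,2,6,1,4,1,6,0,4,0,6,3],[4,1,2,4,1,2,6,3,0,4,6,4,3,0,3,6,0,6,2,1,6,1,3,3,1,2,4,1,2,6,3,0,4,6,4,3,6,4,3,1,4,0,3,1,6,1,1,6,0,6,1,4,2,2,0,6,0,3,6,1,6,2,1,6,4,3,1,4,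0,3,1,6,1,1,6,0,6,1,2,6,1,4,1,6,0,4,0,6,3],[0,6,1,6,0,0,6,0,2,1,4,0,2,4,6,0,3,6,0,6,2,1,6,1,3,3,1,2,4,1,2,6,3,0,4,6,4,3,6,4,3,1,4,0,3,1,6,1,1,6,0,6,1,4,2,2,0,6,0,3,6,1,6,2,1,2,4,6,4,1,2,6,3,0,4,3,0,4],[4,2,2,0,6,0,3,6,1,6,2,1,6,1,4,2,2,0,6,0,3,6,1,6,2,1,6,1,2,1,4,0,6,4,6,1,4,0,3,4,1,2,4,1,2,6,3,0,4,6,4,3,6,1,2,1,4,0,6,4,6,1,4,0,3,4,2,2,0,6,0,3,6,1,6,2,1,6,1],[0,6,1,6,0,0,6,0,2,1,4,0,2,4,6,0,3,6,0,6,2,1,6,1,3,3,1,2,4,1,2,6,3,0,4,6,4,3,6,4,3,1,4,0,3,1,6,1,1,6,0,6,1,4,2,2,0,6,0,3,6,1,6,2,1,2,4,6,4,1,2,6,3,0,4,3,0,4,0,4,3,1,4,0,3,1,6,1,1,6,0,6,1],[4,2,2,0,6,0,3,6,1,6,2,1,6,1,4,2,2,0,6,0,3,6,1,6,2,1,6,1,2,1,4,0,6,4,6,1,4,0,3,4,1,2,4,1,2,6,3,0,4,6,4,3,6,1,2,1,4,0,6,4,6,1,4,0,3,4,2,2,0,6,0,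3,6,1,6,2,1,6,4,3,1,4,0,3,1,6,1,1,6,0,6,1],[0,6,1,6,0,0,6,0,2,1,4,0,2,4,6,0,3,6,0,6,2,1,6,1,3,3,4,0,6,2,4,6,4,1,2,6,3,0,4,3,0,4,0,6,0,3,6,0,6,2,1,6,1,3,3,4,2,1,4,0,6,4,6,1,4,0,3,4,2,2,0,6,0,3,6,1,6,2,1,1,6,0,0,6,0,2,1,4,0,2,4,1],[0,6,1,6,0,0,6,0,2,1,4,0,2,4,6,0,3,6,0,6,2,1,6,1,3,3,4,0,6,2,4,6,4,1,2,6,3,0,4,3,0,4,0,6,0,3,6,0,6,2,1,6,1,3,3,4,2,1,4,0,6,4,6,1,4,0,3,4,2,2,0,6,0,3,6,1,6,2,1,6,4,3,1,4,0,3,1,6,1,1,6,0,6,1],[0,6,1,6,0,0,6,0,2,1,4,0,2,4,6,0,3,6,0,6,2,1,6,1,3,3,4,0,6,2,4,6,4,1,2,6,3,0,4,3,0,4,0,6,0,3,6,0,6,2,1,6,1,3,3,4,2,1,4,0,6,4,6,1,4,0,3,4,2,2,0,6,0,3,6,1,6,2,1,6,1],[0,6,1,6,0,0,6,0,2,1,4,0,2,4,6,0,3,6,0,6,2,1,6,1,3,3,4,0,6,2,4,6,4,1,2,6,3,0,4,3,0,4,0,6,0,3,6,0,6,2,1,6,1,3,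3,4,2,1,4,0,6,4,6,1,4,0,3,4,2,2,0,6,0,3,6,1,6,2,1,6,1,2,1,4,0,6,4,6,1,4,0,3],[4,1,2,4,1,2,6,3,0,4,6,4,3,6,1,4,2,2,0,6,0,3,6,1,6,2,1,6,1,4,1,2,4,1,2,6,3,0,4,6,4,3,6,1,4,1,2,4,1,2,6,3,0,4,6,4,3,0,3,6,0,6,2,1,6,1,3,3,4,0,6,0,3,6,0,6,2,1,6,1,3,3,4],[4,1,2,4,1,2,6,3,0,4,6,4,3,6,1,4,2,2,0,6,0,3,6,1,6,2,1,6,1,4,1,2,4,1,2,6,3,0,4,6,4,3,6,1,4,1,2,4,1,2,6,3,0,4,6,4,3,0,3,6,0,6,2,1,6,1,3,3,4,0,6,0,3,6,0,6,2,1,6,1,3,3,4,2,1,4,0,6,4,6,1,4,0,3],[4,1,2,4,1,2,6,3,0,4,6,4,3,6,1,4,2,2,0,6,0,3,6,1,6,2,1,6,1,4,1,2,4,1,2,6,3,0,4,6,4,3,6,1,4,1,2,4,1,2,6,3,0,4,6,4,3,0,3,6,0,6,2,1,6,1,3,3,4,0,6,0,3,6,0,6,2,1,6,1,3,3,4,0,6,1,6,0,0,6,0,2,1,4,0,2,4,1],[4,1,2,4,1,2,6,3,0,4,6,4,3,6,1,4,2,2,0,6,0,3,6,1,6,2,1,6,1,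4,1,2,4,1,2,6,3,0,4,6,4,3,6,1,4,1,2,4,1,2,6,3,0,4,6,4,3,0,3,6,0,6,2,1,6,1,3,3,4,0,6,0,3,6,0,6,2,1,6,1,3,3,4,0,4,3,1,4,0,3,1,6,1,1,6,0,6,1],[0,6,2,4,6,4,1,2,6,3,0,4,3,0,4,0,6,0,3,6,0,6,2,1,6,1,3,3,4,0,4,3,1,4,0,3,1,6,1,1,6,0,6,1,4,2,2,0,6,0,3,6,1,6,2,1,2,4,6,4,1,2,6,3,0,4,3,0,2,2,0,6,0,3,6,1,6,2,1,6,1,2,6,1,4,1,6,0,4,0,6,3],[4,1,2,4,1,2,6,3,0,4,6,4,3,6,1,4,2,2,0,6,0,3,6,1,6,2,1,1,6,0,0,6,0,2,1,4,0,2,4,1,4,1,2,4,1,2,6,3,0,4,6,4,3,0,3,6,0,6,2,1,6,1,3,3,4,0,6,0,3,6,0,6,2,1,6,1,3,3,4,0,6,2,4,6,4,1,2,6,3,0,4,3,0,4],[0,6,2,4,6,4,1,2,6,3,0,4,3,0,2,2,0,6,0,3,6,1,6,2,1,6,1,2,1,4,0,6,4,6,1,4,0,3,0,6,2,4,6,4,1,2,6,3,0,4,3,0,4,2,1,4,0,6,4,6,1,4,0,3,4,2,2,0,6,0,3,6,1,6,2,1,1,6,0,0,6,0,2,1,4,0,2,4,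1],[4,1,2,4,1,2,6,3,0,4,6,4,3,0,3,6,0,6,2,1,6,1,3,3,4,0,6,2,4,6,4,1,2,6,3,0,4,3,0,4,0,6,2,4,6,4,1,2,6,3,0,4,3,0,4,0,6,1,6,0,0,6,0,2,1,4,0,2,4,1,4,2,2,0,6,0,3,6,1,6,2,1,6,1,2,6,1,4,1,6,0,4,0,6,3],[0,6,2,4,6,4,1,2,6,3,0,4,3,0,2,2,0,6,0,3,6,1,6,2,1,6,1,2,1,4,0,6,4,6,1,4,0,3,0,6,2,4,6,4,1,2,6,3,0,4,3,0,4,2,1,4,0,6,4,6,1,4,0,3,4,2,2,0,6,0,3,6,1,6,2,1,6,1],[4,1,2,4,1,2,6,3,0,4,6,4,3,0,3,6,0,6,2,1,6,1,3,3,1,2,4,1,2,6,3,0,4,6,4,3,6,4,3,1,4,0,3,1,6,1,1,6,0,6,1,4,2,2,0,6,0,3,6,1,6,2,1,6,1,4,1,2,4,1,2,6,3,0,4,6,4,3,6,1,2,6,1,4,1,6,0,4,0,6,3],[0,6,2,4,6,4,1,2,6,3,0,4,3,0,4,2,1,4,0,6,4,6,1,4,0,3,0,6,0,3,6,0,6,2,1,6,1,3,3,1,2,4,1,2,6,3,0,4,6,4,3,6,4,3,1,4,0,3,1,6,1,1,6,0,6,1,4,2,2,0,6,0,3,6,1,6,2,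1,2,4,6,4,1,2,6,3,0,4,3,0,4],[4,1,2,4,1,2,6,3,0,4,6,4,3,0,3,6,0,6,2,1,6,1,3,3,4,0,6,2,4,6,4,1,2,6,3,0,4,3,0,4,0,6,2,4,6,4,1,2,6,3,0,4,3,0,4,0,6,1,6,0,0,6,0,2,1,4,0,2,4,1,4,2,2,0,6,0,3,6,1,6,2,1,6,1,4,1,2,4,1,2,6,3,0,4,6,4,3,6,1,2,6,1,4,1,6,0,4,0,6,3],[0,6,2,4,6,4,1,2,6,3,0,4,3,0,2,2,0,6,0,3,6,1,6,2,1,6,1,2,1,4,0,6,4,6,1,4,0,3,0,6,2,4,6,4,1,2,6,3,0,4,3,0,4,2,1,4,0,6,4,6,1,4,0,3,4,2,2,0,6,0,3,6,1,6,2,1,2,4,6,4,1,2,6,3,0,4,3,0,4],[4,1,2,4,1,2,6,3,0,4,6,4,3,6,1,2,1,4,0,6,4,6,1,4,0,3,0,6,0,3,6,0,6,2,1,6,1,3,3,4,0,6,1,6,0,0,6,0,2,1,4,0,2,4,1,4,1,2,4,1,2,6,3,0,4,6,4,3,6,1,2,1,4,0,6,4,6,1,4,0,3,4,2,2,0,6,0,3,6,1,6,2,1,6,1],[2,1,4,0,6,4,6,1,4,0,3,4,2,2,0,6,0,3,6,1,6,2,1,2,4,6,4,1,2,6,3,0,4,3,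0,4,2,1,4,0,6,4,6,1,4,0,3,4,2,2,0,6,0,3,6,1,6,2,1,2,4,6,4,1,2,6,3,0,4,3,0,4,2,6,1,4,1,6,0,4,0,6,3],[4,1,2,4,1,2,6,3,0,4,6,4,3,6,1,4,2,2,0,6,0,3,6,1,6,2,1,2,4,6,4,1,2,6,3,0,4,3,0,4,0,6,1,6,0,0,6,0,2,1,4,0,2,4,6,0,3,6,0,6,2,1,6,1,3,3,4,0,6,0,3,6,0,6,2,1,6,1,3,3,4],[4,1,2,4,1,2,6,3,0,4,6,4,3,6,1,4,2,2,0,6,0,3,6,1,6,2,1,2,4,6,4,1,2,6,3,0,4,3,0,4,0,6,1,6,0,0,6,0,2,1,4,0,2,4,6,0,3,6,0,6,2,1,6,1,3,3,4,0,6,0,3,6,0,6,2,1,6,1,3,3,4,0,4,3,1,4,0,3,1,6,1,1,6,0,6,1],[4,1,2,4,1,2,6,3,0,4,6,4,3,6,1,4,2,2,0,6,0,3,6,1,6,2,1,2,4,6,4,1,2,6,3,0,4,3,0,4,0,6,1,6,0,0,6,0,2,1,4,0,2,4,6,0,3,6,0,6,2,1,6,1,3,3,4,0,6,0,3,6,0,6,2,1,6,1,3,3,4,0,6,1,6,0,0,6,0,2,1,4,0,2,4,1],[2,1,4,0,6,4,6,1,4,0,3,0,6,2,4,6,4,1,2,6,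3,0,4,3,0,2,2,0,6,0,3,6,1,6,2,1,6,1,4,2,2,0,6,0,3,6,1,6,2,1,1,6,0,0,6,0,2,1,4,0,2,4,1,4,2,2,0,6,0,3,6,1,6,2,1,6,1,2,1,4,0,6,4,6,1,4,0,3],[2,1,4,0,6,4,6,1,4,0,3,0,6,2,4,6,4,1,2,6,3,0,4,3,0,2,2,0,6,0,3,6,1,6,2,1,6,1,4,2,2,0,6,0,3,6,1,6,2,1,1,6,0,0,6,0,2,1,4,0,2,4,1,4,2,2,0,6,0,3,6,1,6,2,1,1,6,0,0,6,0,2,1,4,0,2,4,1],[4,1,2,4,1,2,6,3,0,4,6,4,3,1,6,0,0,6,0,2,1,4,0,2,4,1,4,2,2,0,6,0,3,6,1,6,2,1,6,1,4,1,2,4,1,2,6,3,0,4,6,4,3,6,1,2,1,4,0,6,4,6,1,4,0,3,4,1,2,4,1,2,6,3,0,4,6,4,3,6,1],[4,1,2,4,1,2,6,3,0,4,6,4,3,1,6,0,0,6,0,2,1,4,0,2,4,1,4,2,2,0,6,0,3,6,1,6,2,1,6,1,4,1,2,4,1,2,6,3,0,4,6,4,3,6,1,2,1,4,0,6,4,6,1,4,0,3,4,1,2,4,1,2,6,3,0,4,6,4,3,6,1,2,1,4,0,6,4,6,1,4,0,3],[4,1,2,4,1,2,6,3,0,4,6,4,3,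1,6,0,0,6,0,2,1,4,0,2,4,1,4,2,2,0,6,0,3,6,1,6,2,1,6,1,4,1,2,4,1,2,6,3,0,4,6,4,3,6,4,3,1,4,0,3,1,6,1,1,6,0,2,4,6,4,1,2,6,3,0,4,3,0,4],[0,4,3,1,4,0,3,1,6,1,1,6,0,6,1,4,2,2,0,6,0,3,6,1,6,2,1,6,1,4,1,2,4,1,2,6,3,0,4,6,4,3,6,1,4,1,2,4,1,2,6,3,0,4,6,4,3,6,1,4,2,2,0,6,0,3,6,1,6,2,1,2,4,6,4,1,2,6,3,0,4,3,0,4],[0,6,0,3,6,0,6,2,1,6,1,3,3,4,0,6,2,4,6,4,1,2,6,3,0,4,3,0,4,0,6,0,3,6,0,6,2,1,6,1,3,3,4,0,4,3,1,4,0,3,1,6,1,1,6,0,0,3,6,0,6,2,1,6,1,3,3,4,2,1,4,0,6,4,6,1,4,0,6,1,4,1,6,0,4,0,6,3],[0,6,0,3,6,0,6,2,1,6,1,3,3,4,0,6,2,4,6,4,1,2,6,3,0,4,3,0,4,0,6,0,3,6,0,6,2,1,6,1,3,3,4,0,4,3,1,4,0,3,1,6,1,1,6,0,0,3,6,0,6,2,1,6,1,3,3,4,2,6,1,4,1,6,0,4,0,6,3],[0,6,0,3,6,0,6,2,1,6,1,3,3,4,0,6,2,4,6,4,1,2,6,3,0,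4,3,0,4,0,6,0,3,6,0,6,2,1,6,1,3,3,4,0,4,3,1,4,0,3,1,6,1,1,6,0,0,3,6,0,6,2,1,6,1,3,3,4,0,4,3,1,4,0,3,1,6,1,1,6,0,6,1,2,6,1,4,1,6,0,4,0,6,3],[0,6,0,3,6,0,6,2,1,6,1,3,3,4,0,6,2,4,6,4,1,2,6,3,0,4,3,0,4,0,6,0,3,6,0,6,2,1,6,1,3,3,4,0,4,3,1,4,0,3,1,6,1,1,6,0,0,3,6,0,6,2,1,6,1,3,3,4,0,6,1,6,0,0,6,0,2,1,4,0,2,4,1,2,6,1,4,1,6,0,4,0,6,3],[0,6,0,3,6,0,6,2,1,6,1,3,3,4,0,6,1,6,0,0,6,0,2,1,4,0,2,4,6,0,3,6,0,6,2,1,6,1,3,3,4,0,4,3,1,4,0,3,1,6,1,1,6,0,6,1,4,2,2,0,6,0,3,6,1,6,2,1,6,1,2,1,4,0,6,4,6,1,4,0,6,1,4,1,6,0,4,0,6,3],[0,6,0,3,6,0,6,2,1,6,1,3,3,4,0,6,1,6,0,0,6,0,2,1,4,0,2,4,6,0,3,6,0,6,2,1,6,1,3,3,4,0,4,3,1,4,0,3,1,6,1,1,6,0,6,1,4,2,2,0,6,0,3,6,1,6,2,1,6,1,2,6,1,4,1,6,0,4,0,6,3],[0,4,3,1,4,0,3,1,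6,1,1,6,0,6,1,4,2,2,0,6,0,3,6,1,6,2,1,6,4,3,1,4,0,3,1,6,1,1,6,0,2,4,6,4,1,2,6,3,0,4,3,0,4,0,6,2,4,6,4,1,2,6,3,0,4,3,0,2,2,0,6,0,3,6,1,6,2,1,6,1],[0,6,0,3,6,0,6,2,1,6,1,3,3,4,0,6,1,6,0,0,6,0,2,1,4,0,2,4,6,0,3,6,0,6,2,1,6,1,3,3,4,0,4,3,1,4,0,3,1,6,1,1,6,0,6,1,4,2,2,0,6,0,3,6,1,6,2,1,1,6,0,0,6,0,2,1,4,0,2,4,1,2,6,1,4,1,6,0,4,0,6,3],[4,1,2,4,1,2,6,3,0,4,6,4,3,1,6,0,0,6,0,2,1,4,0,2,4,1,4,2,2,0,6,0,3,6,1,6,2,1,6,1,2,1,4,0,6,4,6,1,4,0,3,4,1,2,4,1,2,6,3,0,4,6,4,3,6,1,4,1,2,4,1,2,6,3,0,4,6,4,3,6,4,3,1,4,0,3,1,6,1,1,6,0,6,1],[4,1,2,4,1,2,6,3,0,4,6,4,3,1,6,0,0,6,0,2,1,4,0,2,4,1,4,2,2,0,6,0,3,6,1,6,2,1,6,1,2,1,4,0,6,4,6,1,4,0,3,4,1,2,4,1,2,6,3,0,4,6,4,3,6,1,4,1,2,4,1,2,6,3,0,4,6,4,3,6,1],[4,1,2,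4,1,2,6,3,0,4,6,4,3,1,6,0,0,6,0,2,1,4,0,2,4,1,4,2,2,0,6,0,3,6,1,6,2,1,6,1,2,1,4,0,6,4,6,1,4,0,3,0,6,2,4,6,4,1,2,6,3,0,4,3,0,4],[4,1,2,4,1,2,6,3,0,4,6,4,3,1,6,0,0,6,0,2,1,4,0,2,4,1,4,2,2,0,6,0,3,6,1,6,2,1,6,1,2,1,4,0,6,4,6,1,4,0,3,0,6,2,4,6,4,1,2,6,3,0,4,3,0,4,2,1,4,0,6,4,6,1,4,0,3],[4,1,2,4,1,2,6,3,0,4,6,4,3,1,6,0,0,6,0,2,1,4,0,2,4,1,4,2,2,0,6,0,3,6,1,6,2,1,1,6,0,0,6,0,2,1,4,0,2,4,1,4,1,2,4,1,2,6,3,0,4,6,4,3,6,1,2,1,4,0,6,4,6,1,4,0,3],[4,1,2,4,1,2,6,3,0,4,6,4,3,1,6,0,0,6,0,2,1,4,0,2,4,1,4,2,2,0,6,0,3,6,1,6,2,1,1,6,0,0,6,0,2,1,4,0,2,4,1,4,1,2,4,1,2,6,3,0,4,6,4,3,6,1],[4,1,2,4,1,2,6,3,0,4,6,4,3,1,6,0,0,6,0,2,1,4,0,2,4,1,4,2,2,0,6,0,3,6,1,6,2,1,6,1,4,1,2,4,1,2,6,3,0,4,6,4,3,6,1,2,1,4,0,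6,4,6,1,4,0,3],[4,1,2,4,1,2,6,3,0,4,6,4,3,1,6,0,0,6,0,2,1,4,0,2,4,1,4,2,2,0,6,0,3,6,1,6,2,1,6,1,4,1,2,4,1,2,6,3,0,4,6,4,3,1,6,0,0,6,0,2,1,4,0,2,4,1],[0,6,0,3,6,0,6,2,1,6,1,3,3,4,0,4,3,1,4,0,3,1,6,1,1,6,0,0,3,6,0,6,2,1,6,1,3,3,1,2,4,1,2,6,3,0,4,6,4,3,1,6,0,0,6,0,2,1,4,0,2,4,1,4,2,2,0,6,0,3,6,1,6,2,1,1,6,0,0,6,0,2,1,4,0,2,4,1],[4,2,2,0,6,0,3,6,1,6,2,1,6,1,2,1,4,0,6,4,6,1,4,0,3,4,1,2,4,1,2,6,3,0,4,6,4,3,6,1,2,1,4,0,6,4,6,1,4,0,3,0,6,0,3,6,0,6,2,1,6,1,3,3,4,2,1,4,0,6,4,6,1,4,0,3],[4,2,2,0,6,0,3,6,1,6,2,1,6,1,2,1,4,0,6,4,6,1,4,0,3,4,1,2,4,1,2,6,3,0,4,6,4,3,6,1,2,1,4,0,6,4,6,1,4,0,3,0,6,0,3,6,0,6,2,1,6,1,3,3,4],[4,2,2,0,6,0,3,6,1,6,2,1,6,1,2,1,4,0,6,4,6,1,4,0,3,4,1,2,4,1,2,6,3,0,4,6,4,3,6,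1,2,1,4,0,6,4,6,1,4,0,3,0,6,0,3,6,0,6,2,1,6,1,3,3,4,0,6,1,6,0,0,6,0,2,1,4,0,2,4,1],[4,2,2,0,6,0,3,6,1,6,2,1,6,1,2,1,4,0,6,4,6,1,4,0,3,4,1,2,4,1,2,6,3,0,4,6,4,3,6,1,2,1,4,0,6,4,6,1,4,0,3,0,6,0,3,6,0,6,2,1,6,1,3,3,4,0,4,3,1,4,0,3,1,6,1,1,6,0,6,1],[0,4,3,1,4,0,3,1,6,1,1,6,0,0,3,6,0,6,2,1,6,1,3,3,4,0,6,0,3,6,0,6,2,1,6,1,3,3,4,0,6,2,4,6,4,1,2,6,3,0,4,3,0,4,0,6,0,3,6,0,6,2,1,6,1,3,3,1,2,4,1,2,6,3,0,4,6,4,3,6,1],[0,4,3,1,4,0,3,1,6,1,1,6,0,0,3,6,0,6,2,1,6,1,3,3,4,0,6,0,3,6,0,6,2,1,6,1,3,3,4,0,6,2,4,6,4,1,2,6,3,0,4,3,0,4,0,6,0,3,6,0,6,2,1,6,1,3,3,1,2,4,1,2,6,3,0,4,6,4,3,6,1,2,1,4,0,6,4,6,1,4,0,3],[0,6,2,4,6,4,1,2,6,3,0,4,3,0,4,0,6,1,6,0,0,6,0,2,1,4,0,2,4,6,0,3,6,0,6,2,1,6,1,3,3,4,0,4,3,1,4,0,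3,1,6,1,1,6,0,6,1,4,2,2,0,6,0,3,6,1,6,2,1,6,1,4,2,2,0,6,0,3,6,1,6,2,1,6,1],[0,6,2,4,6,4,1,2,6,3,0,4,3,0,4,0,6,1,6,0,0,6,0,2,1,4,0,2,4,1,4,2,2,0,6,0,3,6,1,6,2,1,1,6,0,0,6,0,2,1,4,0,2,4,6,0,3,6,0,6,2,1,6,1,3,3,4,0,6,0,3,6,0,6,2,1,6,1,3,3,4],[4,2,2,0,6,0,3,6,1,6,2,1,6,4,3,1,4,0,3,1,6,1,1,6,0,2,4,6,4,1,2,6,3,0,4,3,0,4,0,6,2,4,6,4,1,2,6,3,0,4,3,0,4,0,6,0,3,6,0,6,2,1,6,1,3,3,4,0,6,1,6,0,0,6,0,2,1,4,0,2,4,1,2,6,1,4,1,6,0,4,0,6,3],[0,6,1,6,0,0,6,0,2,1,4,0,2,4,1,4,2,2,0,6,0,3,6,1,6,2,1,6,1,4,2,2,0,6,0,3,6,1,6,2,1,6,1,2,1,4,0,6,4,6,1,4,0,3,4,2,2,0,6,0,3,6,1,6,2,1,2,4,6,4,1,2,6,3,0,4,3,0,4],[4,2,2,0,6,0,3,6,1,6,2,1,6,4,3,1,4,0,3,1,6,1,1,6,0,2,4,6,4,1,2,6,3,0,4,3,0,4,0,6,2,4,6,4,1,2,6,3,0,4,3,0,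4,0,6,0,3,6,0,6,2,1,6,1,3,3,4,2,1,4,0,6,4,6,1,4,0,6,1,4,1,6,0,4,0,6,3],[4,2,2,0,6,0,3,6,1,6,2,1,6,4,3,1,4,0,3,1,6,1,1,6,0,2,4,6,4,1,2,6,3,0,4,3,0,4,0,6,2,4,6,4,1,2,6,3,0,4,3,0,4,0,6,0,3,6,0,6,2,1,6,1,3,3,4,2,6,1,4,1,6,0,4,0,6,3],[2,1,4,0,6,4,6,1,4,0,3,4,2,2,0,6,0,3,6,1,6,2,1,6,1,4,2,2,0,6,0,3,6,1,6,2,1,2,4,6,4,1,2,6,3,0,4,3,0,4,2,1,4,0,6,4,6,1,4,0,3,0,6,0,3,6,0,6,2,1,6,1,3,3,4,2,6,1,4,1,6,0,4,0,6,3],[4,2,2,0,6,0,3,6,1,6,2,1,6,1,2,1,4,0,6,4,6,1,4,0,3,4,1,2,4,1,2,6,3,0,4,6,4,3,0,3,6,0,6,2,1,6,1,3,3,4,0,4,3,1,4,0,3,1,6,1,1,6,0,2,4,6,4,1,2,6,3,0,4,3,0,4,2,6,1,4,1,6,0,4,0,6,3],[2,1,4,0,6,4,6,1,4,0,3,4,1,2,4,1,2,6,3,0,4,6,4,3,0,3,6,0,6,2,1,6,1,3,3,4,0,6,0,3,6,0,6,2,1,6,1,3,3,4,0,4,3,1,4,0,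3,1,6,1,1,6,0,0,3,6,0,6,2,1,6,1,3,3,4],[2,1,4,0,6,4,6,1,4,0,3,4,1,2,4,1,2,6,3,0,4,6,4,3,0,3,6,0,6,2,1,6,1,3,3,4,0,6,0,3,6,0,6,2,1,6,1,3,3,4,0,4,3,1,4,0,3,1,6,1,1,6,0,0,3,6,0,6,2,1,6,1,3,3,4,2,1,4,0,6,4,6,1,4,0,3],[0,6,2,4,6,4,1,2,6,3,0,4,3,0,4,0,4,3,1,4,0,3,1,6,1,1,6,0,6,1,4,2,2,0,6,0,3,6,1,6,2,1,1,6,0,0,6,0,2,1,4,0,2,4,6,0,3,6,0,6,2,1,6,1,3,3,4,0,6,0,3,6,0,6,2,1,6,1,3,3,4,2,6,1,4,1,6,0,4,0,6,3],[0,6,0,3,6,0,6,2,1,6,1,3,3,1,2,4,1,2,6,3,0,4,6,4,3,6,1,4,2,2,0,6,0,3,6,1,6,2,1,6,1,4,1,2,4,1,2,6,3,0,4,6,4,3,6,1,4,2,2,0,6,0,3,6,1,6,2,1,2,4,6,4,1,2,6,3,0,4,3,0,4,0,6,2,4,6,4,1,2,6,3,0,4,3,0,4],[4,2,2,0,6,0,3,6,1,6,2,1,2,4,6,4,1,2,6,3,0,4,3,0,4,0,6,1,6,0,0,6,0,2,1,4,0,2,4,1,4,1,2,4,1,2,6,3,0,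4,6,4,3,6,1,4,2,2,0,6,0,3,6,1,6,2,1,6,1,2,1,4,0,6,4,6,1,4,0,3],[4,2,2,0,6,0,3,6,1,6,2,1,2,4,6,4,1,2,6,3,0,4,3,0,4,0,6,1,6,0,0,6,0,2,1,4,0,2,4,1,4,1,2,4,1,2,6,3,0,4,6,4,3,6,1,4,2,2,0,6,0,3,6,1,6,2,1,6,1],[4,2,2,0,6,0,3,6,1,6,2,1,2,4,6,4,1,2,6,3,0,4,3,0,4,0,6,1,6,0,0,6,0,2,1,4,0,2,4,1,4,1,2,4,1,2,6,3,0,4,6,4,3,6,1,4,2,2,0,6,0,3,6,1,6,2,1,6,4,3,1,4,0,3,1,6,1,1,6,0,6,1],[4,2,2,0,6,0,3,6,1,6,2,1,2,4,6,4,1,2,6,3,0,4,3,0,4,0,6,1,6,0,0,6,0,2,1,4,0,2,4,1,4,1,2,4,1,2,6,3,0,4,6,4,3,6,1,4,2,2,0,6,0,3,6,1,6,2,1,1,6,0,0,6,0,2,1,4,0,2,4,1],[0,6,0,3,6,0,6,2,1,6,1,3,3,1,2,4,1,2,6,3,0,4,6,4,3,1,6,0,0,6,0,2,1,4,0,2,4,6,0,3,6,0,6,2,1,6,1,3,3,4,0,6,0,3,6,0,6,2,1,6,1,3,3,4,0,6,2,4,6,4,1,2,6,3,0,4,3,0,4],[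0,6,0,3,6,0,6,2,1,6,1,3,3,1,2,4,1,2,6,3,0,4,6,4,3,1,6,0,0,6,0,2,1,4,0,2,4,6,0,3,6,0,6,2,1,6,1,3,3,4,0,6,0,3,6,0,6,2,1,6,1,3,3,4,0,6,2,4,6,4,1,2,6,3,0,4,3,0,4,2,1,4,0,6,4,6,1,4,0,3],[0,6,0,3,6,0,6,2,1,6,1,3,3,1,2,4,1,2,6,3,0,4,6,4,3,1,6,0,0,6,0,2,1,4,0,2,4,6,0,3,6,0,6,2,1,6,1,3,3,4,0,6,0,3,6,0,6,2,1,6,1,3,3,4,0,6,2,4,6,4,1,2,6,3,0,4,3,0,4,0,6,1,6,0,0,6,0,2,1,4,0,2,4,1],[0,6,0,3,6,0,6,2,1,6,1,3,3,1,2,4,1,2,6,3,0,4,6,4,3,1,6,0,0,6,0,2,1,4,0,2,4,6,0,3,6,0,6,2,1,6,1,3,3,4,0,6,0,3,6,0,6,2,1,6,1,3,3,4,0,6,2,4,6,4,1,2,6,3,0,4,3,0,4,0,4,3,1,4,0,3,1,6,1,1,6,0,6,1],[4,2,2,0,6,0,3,6,1,6,2,1,6,1,2,1,4,0,6,4,6,1,4,0,3,0,6,2,4,6,4,1,2,6,3,0,4,3,0,4,0,6,2,4,6,4,1,2,6,3,0,4,3,0,2,2,0,6,0,3,6,1,6,2,1,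6,4,3,1,4,0,3,1,6,1,1,6,0,6,1],[4,2,2,0,6,0,3,6,1,6,2,1,6,1,2,1,4,0,6,4,6,1,4,0,3,0,6,2,4,6,4,1,2,6,3,0,4,3,0,4,0,6,2,4,6,4,1,2,6,3,0,4,3,0,2,2,0,6,0,3,6,1,6,2,1,1,6,0,0,6,0,2,1,4,0,2,4,1],[4,2,2,0,6,0,3,6,1,6,2,1,6,1,2,1,4,0,6,4,6,1,4,0,3,0,6,2,4,6,4,1,2,6,3,0,4,3,0,4,0,6,2,4,6,4,1,2,6,3,0,4,3,0,2,2,0,6,0,3,6,1,6,2,1,6,1],[4,2,2,0,6,0,3,6,1,6,2,1,6,1,2,1,4,0,6,4,6,1,4,0,3,0,6,2,4,6,4,1,2,6,3,0,4,3,0,4,0,6,2,4,6,4,1,2,6,3,0,4,3,0,2,2,0,6,0,3,6,1,6,2,1,6,1,2,1,4,0,6,4,6,1,4,0,3],[0,6,0,3,6,0,6,2,1,6,1,3,3,4,0,6,2,4,6,4,1,2,6,3,0,4,3,0,4,0,6,2,4,6,4,1,2,6,3,0,4,3,0,4,0,6,2,4,6,4,1,2,6,3,0,4,3,0,4,0,6,0,3,6,0,6,2,1,6,1,3,3,4,0,6,0,3,6,0,6,2,1,6,1,3,3,4],[0,6,0,3,6,0,6,2,1,6,1,3,3,4,0,6,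2,4,6,4,1,2,6,3,0,4,3,0,4,0,6,2,4,6,4,1,2,6,3,0,4,3,0,4,0,6,2,4,6,4,1,2,6,3,0,4,3,0,4,0,6,0,3,6,0,6,2,1,6,1,3,3,4,0,6,0,3,6,0,6,2,1,6,1,3,3,4,2,1,4,0,6,4,6,1,4,0,3],[0,6,0,3,6,0,6,2,1,6,1,3,3,4,0,6,2,4,6,4,1,2,6,3,0,4,3,0,4,0,6,2,4,6,4,1,2,6,3,0,4,3,0,4,0,6,2,4,6,4,1,2,6,3,0,4,3,0,4,0,6,0,3,6,0,6,2,1,6,1,3,3,4,0,6,0,3,6,0,6,2,1,6,1,3,3,4,0,6,1,6,0,0,6,0,2,1,4,0,2,4,1],[0,6,0,3,6,0,6,2,1,6,1,3,3,4,0,6,2,4,6,4,1,2,6,3,0,4,3,0,4,0,6,2,4,6,4,1,2,6,3,0,4,3,0,4,0,6,2,4,6,4,1,2,6,3,0,4,3,0,4,0,6,0,3,6,0,6,2,1,6,1,3,3,4,0,6,0,3,6,0,6,2,1,6,1,3,3,4,0,4,3,1,4,0,3,1,6,1,1,6,0,6,1],[0,6,0,3,6,0,6,2,1,6,1,3,3,4,0,6,0,3,6,0,6,2,1,6,1,3,3,4,0,6,1,6,0,0,6,0,2,1,4,0,2,4,1,4,2,2,0,6,0,3,6,1,6,2,1,6,1,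2,1,4,0,6,4,6,1,4,0,3,4,1,2,4,1,2,6,3,0,4,6,4,3,6,1,2,6,1,4,1,6,0,4,0,6,3],[4,2,2,0,6,0,3,6,1,6,2,1,1,6,0,0,6,0,2,1,4,0,2,4,6,0,3,6,0,6,2,1,6,1,3,3,4,0,6,2,4,6,4,1,2,6,3,0,4,3,0,4,0,4,3,1,4,0,3,1,6,1,1,6,0,0,3,6,0,6,2,1,6,1,3,3,4],[4,2,2,0,6,0,3,6,1,6,2,1,1,6,0,0,6,0,2,1,4,0,2,4,6,0,3,6,0,6,2,1,6,1,3,3,4,0,6,2,4,6,4,1,2,6,3,0,4,3,0,4,0,4,3,1,4,0,3,1,6,1,1,6,0,0,3,6,0,6,2,1,6,1,3,3,4,0,4,3,1,4,0,3,1,6,1,1,6,0,6,1],[0,6,0,3,6,0,6,2,1,6,1,3,3,4,0,6,0,3,6,0,6,2,1,6,1,3,3,4,0,6,1,6,0,0,6,0,2,1,4,0,2,4,1,4,2,2,0,6,0,3,6,1,6,2,1,6,4,3,1,4,0,3,1,6,1,1,6,0,2,4,6,4,1,2,6,3,0,4,3,0,4,2,6,1,4,1,6,0,4,0,6,3],[0,6,0,3,6,0,6,2,1,6,1,3,3,4,0,6,0,3,6,0,6,2,1,6,1,3,3,4,0,6,1,6,0,0,6,0,2,1,4,0,2,4,1,4,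2,2,0,6,0,3,6,1,6,2,1,2,4,6,4,1,2,6,3,0,4,3,0,4,2,6,1,4,1,6,0,4,0,6,3],[4,2,2,0,6,0,3,6,1,6,2,1,6,1,4,1,2,4,1,2,6,3,0,4,6,4,3,0,3,6,0,6,2,1,6,1,3,3,4,0,6,2,4,6,4,1,2,6,3,0,4,3,0,4,0,6,1,6,0,0,6,0,2,1,4,0,2,4,6,0,3,6,0,6,2,1,6,1,3,3,4],[4,1,2,4,1,2,6,3,0,4,6,4,3,6,1,4,1,2,4,1,2,6,3,0,4,6,4,3,6,1,2,1,4,0,6,4,6,1,4,0,3,4,2,2,0,6,0,3,6,1,6,2,1,1,6,0,0,6,0,2,1,4,0,2,4,6,0,3,6,0,6,2,1,6,1,3,3,4,2,1,4,0,6,4,6,1,4,0,3],[4,1,2,4,1,2,6,3,0,4,6,4,3,6,1,4,1,2,4,1,2,6,3,0,4,6,4,3,6,1,2,1,4,0,6,4,6,1,4,0,3,4,2,2,0,6,0,3,6,1,6,2,1,1,6,0,0,6,0,2,1,4,0,2,4,6,0,3,6,0,6,2,1,6,1,3,3,4,0,4,3,1,4,0,3,1,6,1,1,6,0,6,1],[0,6,1,6,0,0,6,0,2,1,4,0,2,4,6,0,3,6,0,6,2,1,6,1,3,3,4,0,6,2,4,6,4,1,2,6,3,0,4,3,0,4,0,6,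0,3,6,0,6,2,1,6,1,3,3,4,2,1,4,0,6,4,6,1,4,0,3,0,6,2,4,6,4,1,2,6,3,0,4,3,0,4,0,6,2,4,6,4,1,2,6,3,0,4,3,0,4],[0,6,1,6,0,0,6,0,2,1,4,0,2,4,6,0,3,6,0,6,2,1,6,1,3,3,4,2,1,4,0,6,4,6,1,4,0,3,0,6,2,4,6,4,1,2,6,3,0,4,3,0,4,0,6,0,3,6,0,6,2,1,6,1,3,3,4,2,1,4,0,6,4,6,1,4,0,3,0,6,2,4,6,4,1,2,6,3,0,4,3,0,4,2,6,1,4,1,6,0,4,0,6,3],[0,6,0,3,6,0,6,2,1,6,1,3,3,4,0,6,2,4,6,4,1,2,6,3,0,4,3,0,4,0,6,2,4,6,4,1,2,6,3,0,4,3,0,4,0,6,1,6,0,0,6,0,2,1,4,0,2,4,1,4,2,2,0,6,0,3,6,1,6,2,1,6,1,4,2,2,0,6,0,3,6,1,6,2,1,1,6,0,0,6,0,2,1,4,0,2,4,1,2,6,1,4,1,6,0,4,0,6,3],[0,6,1,6,0,0,6,0,2,1,4,0,2,4,6,0,3,6,0,6,2,1,6,1,3,3,1,2,4,1,2,6,3,0,4,6,4,3,6,1,4,2,2,0,6,0,3,6,1,6,2,1,1,6,0,0,6,0,2,1,4,0,2,4,1,4,1,2,4,1,2,6,3,0,4,6,4,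3,0,3,6,0,6,2,1,6,1,3,3,4],[0,6,0,3,6,0,6,2,1,6,1,3,3,4,0,6,2,4,6,4,1,2,6,3,0,4,3,0,4,0,6,2,4,6,4,1,2,6,3,0,4,3,0,4,0,6,1,6,0,0,6,0,2,1,4,0,2,4,1,4,2,2,0,6,0,3,6,1,6,2,1,6,1,4,2,2,0,6,0,3,6,1,6,2,1,6,1,2,6,1,4,1,6,0,4,0,6,3],[0,6,0,3,6,0,6,2,1,6,1,3,3,4,0,6,2,4,6,4,1,2,6,3,0,4,3,0,4,0,6,2,4,6,4,1,2,6,3,0,4,3,0,4,0,6,1,6,0,0,6,0,2,1,4,0,2,4,1,4,2,2,0,6,0,3,6,1,6,2,1,6,1,4,2,2,0,6,0,3,6,1,6,2,1,6,1,2,1,4,0,6,4,6,1,4,0,6,1,4,1,6,0,4,0,6,3],[4,2,2,0,6,0,3,6,1,6,2,1,1,6,0,0,6,0,2,1,4,0,2,4,6,0,3,6,0,6,2,1,6,1,3,3,4,0,6,0,3,6,0,6,2,1,6,1,3,3,1,2,4,1,2,6,3,0,4,6,4,3,6,1,4,2,2,0,6,0,3,6,1,6,2,1,6,1],[4,2,2,0,6,0,3,6,1,6,2,1,1,6,0,0,6,0,2,1,4,0,2,4,6,0,3,6,0,6,2,1,6,1,3,3,4,0,6,0,3,6,0,6,2,1,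6,1,3,3,1,2,4,1,2,6,3,0,4,6,4,3,6,1,4,2,2,0,6,0,3,6,1,6,2,1,6,1,2,1,4,0,6,4,6,1,4,0,3],[0,6,1,6,0,0,6,0,2,1,4,0,2,4,6,0,3,6,0,6,2,1,6,1,3,3,4,2,1,4,0,6,4,6,1,4,0,3,0,6,2,4,6,4,1,2,6,3,0,4,3,0,4,2,1,4,0,6,4,6,1,4,0,3,0,6,0,3,6,0,6,2,1,6,1,3,3,4,2,1,4,0,6,4,6,1,4,0,3],[0,6,1,6,0,0,6,0,2,1,4,0,2,4,6,0,3,6,0,6,2,1,6,1,3,3,4,2,1,4,0,6,4,6,1,4,0,3,0,6,2,4,6,4,1,2,6,3,0,4,3,0,4,2,1,4,0,6,4,6,1,4,0,3,0,6,0,3,6,0,6,2,1,6,1,3,3,4],[0,6,1,6,0,0,6,0,2,1,4,0,2,4,6,0,3,6,0,6,2,1,6,1,3,3,4,0,6,2,4,6,4,1,2,6,3,0,4,3,0,4,0,6,0,3,6,0,6,2,1,6,1,3,3,4,0,4,3,1,4,0,3,1,6,1,1,6,0,2,4,6,4,1,2,6,3,0,4,3,0,4],[4,2,2,0,6,0,3,6,1,6,2,1,6,1,2,1,4,0,6,4,6,1,4,0,3,0,6,2,4,6,4,1,2,6,3,0,4,3,0,2,2,0,6,0,3,6,1,6,2,1,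1,6,0,0,6,0,2,1,4,0,2,4,6,0,3,6,0,6,2,1,6,1,3,3,4],[0,6,1,6,0,0,6,0,2,1,4,0,2,4,6,0,3,6,0,6,2,1,6,1,3,3,4,0,6,2,4,6,4,1,2,6,3,0,4,3,0,4,0,6,0,3,6,0,6,2,1,6,1,3,3,4,2,1,4,0,6,4,6,1,4,0,3,4,1,2,4,1,2,6,3,0,4,6,4,3,6,1],[0,6,1,6,0,0,6,0,2,1,4,0,2,4,6,0,3,6,0,6,2,1,6,1,3,3,4,0,6,2,4,6,4,1,2,6,3,0,4,3,0,4,0,6,0,3,6,0,6,2,1,6,1,3,3,4,2,1,4,0,6,4,6,1,4,0,3,4,1,2,4,1,2,6,3,0,4,6,4,3,6,1,2,1,4,0,6,4,6,1,4,0,3],[2,1,4,0,6,4,6,1,4,0,3,4,1,2,4,1,2,6,3,0,4,6,4,3,6,1,4,2,2,0,6,0,3,6,1,6,2,1,6,1,2,1,4,0,6,4,6,1,4,0,3,4,2,2,0,6,0,3,6,1,6,2,1,1,6,0,0,6,0,2,1,4,0,2,4,1,2,6,1,4,1,6,0,4,0,6,3],[2,1,4,0,6,4,6,1,4,0,3,4,1,2,4,1,2,6,3,0,4,6,4,3,6,1,4,2,2,0,6,0,3,6,1,6,2,1,6,1,2,1,4,0,6,4,6,1,4,0,3,4,2,2,0,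6,0,3,6,1,6,2,1,6,4,3,1,4,0,3,1,6,1,1,6,0,6,1,2,6,1,4,1,6,0,4,0,6,3],[2,1,4,0,6,4,6,1,4,0,3,4,1,2,4,1,2,6,3,0,4,6,4,3,6,1,4,2,2,0,6,0,3,6,1,6,2,1,6,1,2,1,4,0,6,4,6,1,4,0,3,4,2,2,0,6,0,3,6,1,6,2,1,6,1,2,1,4,0,6,4,6,1,4,0,6,1,4,1,6,0,4,0,6,3],[2,1,4,0,6,4,6,1,4,0,3,4,1,2,4,1,2,6,3,0,4,6,4,3,6,1,4,2,2,0,6,0,3,6,1,6,2,1,6,1,2,1,4,0,6,4,6,1,4,0,3,4,2,2,0,6,0,3,6,1,6,2,1,6,1,2,6,1,4,1,6,0,4,0,6,3],[2,1,4,0,6,4,6,1,4,0,3,0,6,0,3,6,0,6,2,1,6,1,3,3,4,0,6,0,3,6,0,6,2,1,6,1,3,3,1,2,4,1,2,6,3,0,4,6,4,3,0,3,6,0,6,2,1,6,1,3,3,4,0,6,0,3,6,0,6,2,1,6,1,3,3,4],[0,6,1,6,0,0,6,0,2,1,4,0,2,4,6,0,3,6,0,6,2,1,6,1,3,3,4,0,6,2,4,6,4,1,2,6,3,0,4,3,0,4,0,6,0,3,6,0,6,2,1,6,1,3,3,4,0,6,2,4,6,4,1,2,6,3,0,4,3,0,4]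,[0,6,1,6,0,0,6,0,2,1,4,0,2,4,6,0,3,6,0,6,2,1,6,1,3,3,4,0,6,2,4,6,4,1,2,6,3,0,4,3,0,4,0,6,0,3,6,0,6,2,1,6,1,3,3,4,0,6,2,4,6,4,1,2,6,3,0,4,3,0,4,0,6,1,6,0,0,6,0,2,1,4,0,2,4,1],[0,6,1,6,0,0,6,0,2,1,4,0,2,4,1,4,1,2,4,1,2,6,3,0,4,6,4,3,6,1,4,2,2,0,6,0,3,6,1,6,2,1,1,6,0,0,6,0,2,1,4,0,2,4,1,4,2,2,0,6,0,3,6,1,6,2,1,6,1,2,6,1,4,1,6,0,4,0,6,3],[0,6,0,3,6,0,6,2,1,6,1,3,3,1,2,4,1,2,6,3,0,4,6,4,3,0,3,6,0,6,2,1,6,1,3,3,4,2,1,4,0,6,4,6,1,4,0,3,4,2,2,0,6,0,3,6,1,6,2,1,6,4,3,1,4,0,3,1,6,1,1,6,0,6,1,2,6,1,4,1,6,0,4,0,6,3],[0,6,0,3,6,0,6,2,1,6,1,3,3,4,2,1,4,0,6,4,6,1,4,0,3,4,2,2,0,6,0,3,6,1,6,2,1,6,1,4,2,2,0,6,0,3,6,1,6,2,1,6,1,4,2,2,0,6,0,3,6,1,6,2,1,6,1,4,1,2,4,1,2,6,3,0,4,6,4,3,6,1,4,1,2,4,1,2,6,3,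0,4,6,4,3,6,1],[4,2,2,0,6,0,3,6,1,6,2,1,6,1,4,1,2,4,1,2,6,3,0,4,6,4,3,6,1,4,1,2,4,1,2,6,3,0,4,6,4,3,6,1,2,1,4,0,6,4,6,1,4,0,3,4,2,2,0,6,0,3,6,1,6,2,1,2,4,6,4,1,2,6,3,0,4,3,0,4,0,6,0,3,6,0,6,2,1,6,1,3,3,4],[4,2,2,0,6,0,3,6,1,6,2,1,6,1,4,2,2,0,6,0,3,6,1,6,2,1,6,4,3,1,4,0,3,1,6,1,1,6,0,2,4,6,4,1,2,6,3,0,4,3,0,4,0,6,2,4,6,4,1,2,6,3,0,4,3,0,4,0,6,0,3,6,0,6,2,1,6,1,3,3,1,2,4,1,2,6,3,0,4,6,4,3,6,1,2,6,1,4,1,6,0,4,0,6,3],[4,1,2,4,1,2,6,3,0,4,6,4,3,6,1,2,1,4,0,6,4,6,1,4,0,3,4,1,2,4,1,2,6,3,0,4,6,4,3,6,1,2,1,4,0,6,4,6,1,4,0,3,0,6,0,3,6,0,6,2,1,6,1,3,3,4,0,6,0,3,6,0,6,2,1,6,1,3,3,1,2,4,1,2,6,3,0,4,6,4,3,6,1],[4,1,2,4,1,2,6,3,0,4,6,4,3,1,6,0,0,6,0,2,1,4,0,2,4,6,0,3,6,0,6,2,1,6,1,3,3,4,2,1,4,0,6,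4,6,1,4,0,3,0,6,0,3,6,0,6,2,1,6,1,3,3,1,2,4,1,2,6,3,0,4,6,4,3,6,1,2,6,1,4,1,6,0,4,0,6,3],[4,1,2,4,1,2,6,3,0,4,6,4,3,6,1,4,2,2,0,6,0,3,6,1,6,2,1,1,6,0,0,6,0,2,1,4,0,2,4,6,0,3,6,0,6,2,1,6,1,3,3,4,2,1,4,0,6,4,6,1,4,0,3,4,2,2,0,6,0,3,6,1,6,2,1,6,1,2,1,4,0,6,4,6,1,4,0,3],[0,6,0,3,6,0,6,2,1,6,1,3,3,1,2,4,1,2,6,3,0,4,6,4,3,0,3,6,0,6,2,1,6,1,3,3,4,2,1,4,0,6,4,6,1,4,0,3,4,2,2,0,6,0,3,6,1,6,2,1,6,1,4,1,2,4,1,2,6,3,0,4,6,4,3,6,1,2,1,4,0,6,4,6,1,4,0,6,1,4,1,6,0,4,0,6,3],[0,6,0,3,6,0,6,2,1,6,1,3,3,1,2,4,1,2,6,3,0,4,6,4,3,0,3,6,0,6,2,1,6,1,3,3,4,2,1,4,0,6,4,6,1,4,0,3,4,2,2,0,6,0,3,6,1,6,2,1,6,1,4,1,2,4,1,2,6,3,0,4,6,4,3,6,1,2,6,1,4,1,6,0,4,0,6,3],[4,2,2,0,6,0,3,6,1,6,2,1,6,1,4,1,2,4,1,2,6,3,0,4,6,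4,3,6,1,4,2,2,0,6,0,3,6,1,6,2,1,2,4,6,4,1,2,6,3,0,4,3,0,2,2,0,6,0,3,6,1,6,2,1,6,1,4,1,2,4,1,2,6,3,0,4,6,4,3,0,3,6,0,6,2,1,6,1,3,3,4],[0,6,0,3,6,0,6,2,1,6,1,3,3,4,0,6,1,6,0,0,6,0,2,1,4,0,2,4,1,4,2,2,0,6,0,3,6,1,6,2,1,6,1,2,1,4,0,6,4,6,1,4,0,3,0,6,2,4,6,4,1,2,6,3,0,4,3,0,4,0,6,2,4,6,4,1,2,6,3,0,4,3,0,4,2,6,1,4,1,6,0,4,0,6,3],[0,6,0,3,6,0,6,2,1,6,1,3,3,1,2,4,1,2,6,3,0,4,6,4,3,6,1,2,1,4,0,6,4,6,1,4,0,3,0,6,0,3,6,0,6,2,1,6,1,3,3,1,2,4,1,2,6,3,0,4,6,4,3,0,3,6,0,6,2,1,6,1,3,3,4,0,6,2,4,6,4,1,2,6,3,0,4,3,0,4],[0,6,0,3,6,0,6,2,1,6,1,3,3,4,0,6,1,6,0,0,6,0,2,1,4,0,2,4,1,4,2,2,0,6,0,3,6,1,6,2,1,6,1,2,1,4,0,6,4,6,1,4,0,6,1,4,1,6,0,4,0,6,3],[0,6,0,3,6,0,6,2,1,6,1,3,3,4,0,6,1,6,0,0,6,0,2,1,4,0,2,4,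1,4,2,2,0,6,0,3,6,1,6,2,1,6,1,2,6,1,4,1,6,0,4,0,6,3],[0,6,0,3,6,0,6,2,1,6,1,3,3,4,0,6,1,6,0,0,6,0,2,1,4,0,2,4,1,4,2,2,0,6,0,3,6,1,6,2,1,6,4,3,1,4,0,3,1,6,1,1,6,0,6,1,2,6,1,4,1,6,0,4,0,6,3],[0,6,0,3,6,0,6,2,1,6,1,3,3,4,0,6,1,6,0,0,6,0,2,1,4,0,2,4,1,4,2,2,0,6,0,3,6,1,6,2,1,1,6,0,0,6,0,2,1,4,0,2,4,1,2,6,1,4,1,6,0,4,0,6,3],[4,1,2,4,1,2,6,3,0,4,6,4,3,6,1,4,2,2,0,6,0,3,6,1,6,2,1,2,4,6,4,1,2,6,3,0,4,3,0,4,0,6,2,4,6,4,1,2,6,3,0,4,3,0,4,0,4,3,1,4,0,3,1,6,1,1,6,0,0,3,6,0,6,2,1,6,1,3,3,4,2,1,4,0,6,4,6,1,4,0,3],[4,1,2,4,1,2,6,3,0,4,6,4,3,6,1,4,2,2,0,6,0,3,6,1,6,2,1,2,4,6,4,1,2,6,3,0,4,3,0,4,0,6,2,4,6,4,1,2,6,3,0,4,3,0,4,0,4,3,1,4,0,3,1,6,1,1,6,0,0,3,6,0,6,2,1,6,1,3,3,4],[4,1,2,4,1,2,6,3,0,4,6,4,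3,6,1,4,2,2,0,6,0,3,6,1,6,2,1,2,4,6,4,1,2,6,3,0,4,3,0,4,0,6,2,4,6,4,1,2,6,3,0,4,3,0,4,0,4,3,1,4,0,3,1,6,1,1,6,0,0,3,6,0,6,2,1,6,1,3,3,4,0,4,3,1,4,0,3,1,6,1,1,6,0,6,1],[4,1,2,4,1,2,6,3,0,4,6,4,3,6,1,4,2,2,0,6,0,3,6,1,6,2,1,2,4,6,4,1,2,6,3,0,4,3,0,4,0,6,2,4,6,4,1,2,6,3,0,4,3,0,4,0,4,3,1,4,0,3,1,6,1,1,6,0,0,3,6,0,6,2,1,6,1,3,3,4,0,6,1,6,0,0,6,0,2,1,4,0,2,4,1],[0,4,3,1,4,0,3,1,6,1,1,6,0,2,4,6,4,1,2,6,3,0,4,3,0,4,2,1,4,0,6,4,6,1,4,0,3,0,6,0,3,6,0,6,2,1,6,1,3,3,4,0,6,1,6,0,0,6,0,2,1,4,0,2,4,1,2,6,1,4,1,6,0,4,0,6,3],[0,4,3,1,4,0,3,1,6,1,1,6,0,2,4,6,4,1,2,6,3,0,4,3,0,4,2,1,4,0,6,4,6,1,4,0,3,0,6,0,3,6,0,6,2,1,6,1,3,3,4,0,4,3,1,4,0,3,1,6,1,1,6,0,6,1,2,6,1,4,1,6,0,4,0,6,3],[0,4,3,1,4,0,3,1,6,1,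1,6,0,2,4,6,4,1,2,6,3,0,4,3,0,4,2,1,4,0,6,4,6,1,4,0,3,0,6,0,3,6,0,6,2,1,6,1,3,3,4,2,6,1,4,1,6,0,4,0,6,3],[0,4,3,1,4,0,3,1,6,1,1,6,0,2,4,6,4,1,2,6,3,0,4,3,0,4,2,1,4,0,6,4,6,1,4,0,3,0,6,0,3,6,0,6,2,1,6,1,3,3,4,2,1,4,0,6,4,6,1,4,0,6,1,4,1,6,0,4,0,6,3],[0,6,0,3,6,0,6,2,1,6,1,3,3,4,2,1,4,0,6,4,6,1,4,0,3,0,6,2,4,6,4,1,2,6,3,0,4,3,0,4,0,6,2,4,6,4,1,2,6,3,0,4,3,0,4,0,6,1,6,0,0,6,0,2,1,4,0,2,4,1],[0,6,0,3,6,0,6,2,1,6,1,3,3,4,2,1,4,0,6,4,6,1,4,0,3,0,6,2,4,6,4,1,2,6,3,0,4,3,0,4,0,6,2,4,6,4,1,2,6,3,0,4,3,0,4,0,4,3,1,4,0,3,1,6,1,1,6,0,6,1],[0,6,0,3,6,0,6,2,1,6,1,3,3,4,2,1,4,0,6,4,6,1,4,0,3,0,6,2,4,6,4,1,2,6,3,0,4,3,0,4,0,6,2,4,6,4,1,2,6,3,0,4,3,0,4],[0,6,0,3,6,0,6,2,1,6,1,3,3,4,2,1,4,0,6,4,6,1,4,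0,3,0,6,2,4,6,4,1,2,6,3,0,4,3,0,4,0,6,2,4,6,4,1,2,6,3,0,4,3,0,4,2,1,4,0,6,4,6,1,4,0,3],[2,1,4,0,6,4,6,1,4,0,3,0,6,0,3,6,0,6,2,1,6,1,3,3,4,0,6,1,6,0,0,6,0,2,1,4,0,2,4,1,4,1,2,4,1,2,6,3,0,4,6,4,3,6,1,2,1,4,0,6,4,6,1,4,0,6,1,4,1,6,0,4,0,6,3],[2,1,4,0,6,4,6,1,4,0,3,0,6,0,3,6,0,6,2,1,6,1,3,3,1,2,4,1,2,6,3,0,4,6,4,3,6,1,4,1,2,4,1,2,6,3,0,4,6,4,3,6,4,3,1,4,0,3,1,6,1,1,6,0,6,1,2,6,1,4,1,6,0,4,0,6,3],[2,1,4,0,6,4,6,1,4,0,3,0,6,0,3,6,0,6,2,1,6,1,3,3,1,2,4,1,2,6,3,0,4,6,4,3,6,1,4,1,2,4,1,2,6,3,0,4,6,4,3,6,1,2,6,1,4,1,6,0,4,0,6,3],[0,6,0,3,6,0,6,2,1,6,1,3,3,1,2,4,1,2,6,3,0,4,6,4,3,6,1],[0,6,0,3,6,0,6,2,1,6,1,3,3,1,2,4,1,2,6,3,0,4,6,4,3,6,1,2,1,4,0,6,4,6,1,4,0,3],[0,6,0,3,6,0,6,2,1,6,1,3,3,1,2,4,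1,2,6,3,0,4,6,4,3,6,4,3,1,4,0,3,1,6,1,1,6,0,6,1],[0,6,0,3,6,0,6,2,1,6,1,3,3,1,2,4,1,2,6,3,0,4,6,4,3,1,6,0,0,6,0,2,1,4,0,2,4,1],[0,6,0,3,6,0,6,2,1,6,1,3,3,4,0,4,3,1,4,0,3,1,6,1,1,6,0,2,4,6,4,1,2,6,3,0,4,3,0,4,0,6,2,4,6,4,1,2,6,3,0,4,3,0,4],[0,6,0,3,6,0,6,2,1,6,1,3,3,4,0,4,3,1,4,0,3,1,6,1,1,6,0,2,4,6,4,1,2,6,3,0,4,3,0,4,0,6,2,4,6,4,1,2,6,3,0,4,3,0,4,0,4,3,1,4,0,3,1,6,1,1,6,0,6,1],[2,1,4,0,6,4,6,1,4,0,3,0,6,2,4,6,4,1,2,6,3,0,4,3,0,4,0,6,2,4,6,4,1,2,6,3,0,4,3,0,4,0,6,2,4,6,4,1,2,6,3,0,4,3,0,2,2,0,6,0,3,6,1,6,2,1,6,4,3,1,4,0,3,1,6,1,1,6,0,6,1],[2,1,4,0,6,4,6,1,4,0,3,0,6,2,4,6,4,1,2,6,3,0,4,3,0,4,0,6,2,4,6,4,1,2,6,3,0,4,3,0,4,0,6,2,4,6,4,1,2,6,3,0,4,3,0,2,2,0,6,0,3,6,1,6,2,1,1,6,0,0,6,0,2,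1,4,0,2,4,1],[2,1,4,0,6,4,6,1,4,0,3,0,6,2,4,6,4,1,2,6,3,0,4,3,0,4,0,6,2,4,6,4,1,2,6,3,0,4,3,0,4,0,6,2,4,6,4,1,2,6,3,0,4,3,0,2,2,0,6,0,3,6,1,6,2,1,6,1,2,1,4,0,6,4,6,1,4,0,3],[2,1,4,0,6,4,6,1,4,0,3,0,6,2,4,6,4,1,2,6,3,0,4,3,0,4,0,6,2,4,6,4,1,2,6,3,0,4,3,0,4,0,6,2,4,6,4,1,2,6,3,0,4,3,0,2,2,0,6,0,3,6,1,6,2,1,6,1],[4,2,2,0,6,0,3,6,1,6,2,1,6,1,2,1,4,0,6,4,6,1,4,0,3,0,6,2,4,6,4,1,2,6,3,0,4,3,0,4,0,6,0,3,6,0,6,2,1,6,1,3,3,4,2,1,4,0,6,4,6,1,4,0,3,0,6,2,4,6,4,1,2,6,3,0,4,3,0,4],[4,2,2,0,6,0,3,6,1,6,2,1,6,1,2,1,4,0,6,4,6,1,4,0,3,0,6,2,4,6,4,1,2,6,3,0,4,3,0,4,0,6,0,3,6,0,6,2,1,6,1,3,3,4,2,1,4,0,6,4,6,1,4,0,3,0,6,2,4,6,4,1,2,6,3,0,4,3,0,4,2,1,4,0,6,4,6,1,4,0,3],[4,2,2,0,6,0,3,6,1,6,2,1,6,1,2,1,4,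0,6,4,6,1,4,0,3,0,6,2,4,6,4,1,2,6,3,0,4,3,0,4,0,6,0,3,6,0,6,2,1,6,1,3,3,4,0,6,1,6,0,0,6,0,2,1,4,0,2,4,1,4,1,2,4,1,2,6,3,0,4,6,4,3,6,1],[4,2,2,0,6,0,3,6,1,6,2,1,2,4,6,4,1,2,6,3,0,4,3,0,4,0,6,0,3,6,0,6,2,1,6,1,3,3,4,2,1,4,0,6,4,6,1,4,0,3,0,6,2,4,6,4,1,2,6,3,0,4,3,0,4,0,6,2,4,6,4,1,2,6,3,0,4,3,0,4,2,6,1,4,1,6,0,4,0,6,3],[4,2,2,0,6,0,3,6,1,6,2,1,6,4,3,1,4,0,3,1,6,1,1,6,0,0,3,6,0,6,2,1,6,1,3,3,4,0,6,2,4,6,4,1,2,6,3,0,4,3,0,4,2,1,4,0,6,4,6,1,4,0,3],[4,2,2,0,6,0,3,6,1,6,2,1,6,4,3,1,4,0,3,1,6,1,1,6,0,0,3,6,0,6,2,1,6,1,3,3,4,0,6,2,4,6,4,1,2,6,3,0,4,3,0,4],[4,2,2,0,6,0,3,6,1,6,2,1,6,4,3,1,4,0,3,1,6,1,1,6,0,0,3,6,0,6,2,1,6,1,3,3,4,0,6,2,4,6,4,1,2,6,3,0,4,3,0,4,0,4,3,1,4,0,3,1,6,1,1,6,0,6,1],[4,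2,2,0,6,0,3,6,1,6,2,1,6,4,3,1,4,0,3,1,6,1,1,6,0,0,3,6,0,6,2,1,6,1,3,3,4,0,6,2,4,6,4,1,2,6,3,0,4,3,0,4,0,6,1,6,0,0,6,0,2,1,4,0,2,4,1],[4,2,2,0,6,0,3,6,1,6,2,1,6,4,3,1,4,0,3,1,6,1,1,6,0,0,3,6,0,6,2,1,6,1,3,3,4,2,1,4,0,6,4,6,1,4,0,3],[4,2,2,0,6,0,3,6,1,6,2,1,1,6,0,0,6,0,2,1,4,0,2,4,6,0,3,6,0,6,2,1,6,1,3,3,4,0,6,1,6,0,0,6,0,2,1,4,0,2,4,1,4,1,2,4,1,2,6,3,0,4,6,4,3,6,1,2,1,4,0,6,4,6,1,4,0,6,1,4,1,6,0,4,0,6,3],[4,2,2,0,6,0,3,6,1,6,2,1,1,6,0,0,6,0,2,1,4,0,2,4,6,0,3,6,0,6,2,1,6,1,3,3,4,0,6,1,6,0,0,6,0,2,1,4,0,2,4,1,4,1,2,4,1,2,6,3,0,4,6,4,3,6,1,2,6,1,4,1,6,0,4,0,6,3],[4,2,2,0,6,0,3,6,1,6,2,1,1,6,0,0,6,0,2,1,4,0,2,4,6,0,3,6,0,6,2,1,6,1,3,3,4,2,1,4,0,6,4,6,1,4,0,3,0,6,2,4,6,4,1,2,6,3,0,4,3,0,4,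2,6,1,4,1,6,0,4,0,6,3],[4,2,2,0,6,0,3,6,1,6,2,1,1,6,0,0,6,0,2,1,4,0,2,4,6,0,3,6,0,6,2,1,6,1,3,3,4,2,1,4,0,6,4,6,1,4,0,3,0,6,2,4,6,4,1,2,6,3,0,4,3,0,4,2,1,4,0,6,4,6,1,4,0,6,1,4,1,6,0,4,0,6,3],[4,2,2,0,6,0,3,6,1,6,2,1,6,1,2,1,4,0,6,4,6,1,4,0,3,0,6,2,4,6,4,1,2,6,3,0,4,3,0,4,0,6,0,3,6,0,6,2,1,6,1,3,3,4,0,4,3,1,4,0,3,1,6,1,1,6,0,6,1],[4,2,2,0,6,0,3,6,1,6,2,1,6,1,2,1,4,0,6,4,6,1,4,0,3,0,6,2,4,6,4,1,2,6,3,0,4,3,0,4,0,6,0,3,6,0,6,2,1,6,1,3,3,4,0,6,1,6,0,0,6,0,2,1,4,0,2,4,1],[4,2,2,0,6,0,3,6,1,6,2,1,6,1,2,1,4,0,6,4,6,1,4,0,3,0,6,2,4,6,4,1,2,6,3,0,4,3,0,4,0,6,0,3,6,0,6,2,1,6,1,3,3,4],[4,2,2,0,6,0,3,6,1,6,2,1,6,1,2,1,4,0,6,4,6,1,4,0,3,0,6,2,4,6,4,1,2,6,3,0,4,3,0,4,0,6,0,3,6,0,6,2,1,6,1,3,3,4,2,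1,4,0,6,4,6,1,4,0,3],[4,2,2,0,6,0,3,6,1,6,2,1,1,6,0,0,6,0,2,1,4,0,2,4,6,0,3,6,0,6,2,1,6,1,3,3,4,2,1,4,0,6,4,6,1,4,0,6,1,4,1,6,0,4,0,6,3],[4,2,2,0,6,0,3,6,1,6,2,1,1,6,0,0,6,0,2,1,4,0,2,4,6,0,3,6,0,6,2,1,6,1,3,3,4,0,6,1,6,0,0,6,0,2,1,4,0,2,4,1,2,6,1,4,1,6,0,4,0,6,3],[4,2,2,0,6,0,3,6,1,6,2,1,2,4,6,4,1,2,6,3,0,4,3,0,4,0,6,0,3,6,0,6,2,1,6,1,3,3,4,0,6,1,6,0,0,6,0,2,1,4,0,2,4,1,4,1,2,4,1,2,6,3,0,4,6,4,3,6,1,2,6,1,4,1,6,0,4,0,6,3],[4,2,2,0,6,0,3,6,1,6,2,1,2,4,6,4,1,2,6,3,0,4,3,0,4,0,6,0,3,6,0,6,2,1,6,1,3,3,4,2,1,4,0,6,4,6,1,4,0,3,0,6,2,4,6,4,1,2,6,3,0,4,3,0,4,2,6,1,4,1,6,0,4,0,6,3],[0,6,0,3,6,0,6,2,1,6,1,3,3,4,0,6,1,6,0,0,6,0,2,1,4,0,2,4,1,4,2,2,0,6,0,3,6,1,6,2,1,2,4,6,4,1,2,6,3,0,4,3,0,2,2,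0,6,0,3,6,1,6,2,1,2,4,6,4,1,2,6,3,0,4,3,0,4],[0,6,2,4,6,4,1,2,6,3,0,4,3,0,4,0,6,0,3,6,0,6,2,1,6,1,3,3,4,2,1,4,0,6,4,6,1,4,0,3,4,2,2,0,6,0,3,6,1,6,2,1,1,6,0,0,6,0,2,1,4,0,2,4,1,4,2,2,0,6,0,3,6,1,6,2,1,6,1,2,6,1,4,1,6,0,4,0,6,3],[0,6,0,3,6,0,6,2,1,6,1,3,3,4,0,6,1,6,0,0,6,0,2,1,4,0,2,4,1,4,2,2,0,6,0,3,6,1,6,2,1,2,4,6,4,1,2,6,3,0,4,3,0,2,2,0,6,0,3,6,1,6,2,1,2,4,6,4,1,2,6,3,0,4,3,0,4,0,6,1,6,0,0,6,0,2,1,4,0,2,4,1],[0,6,0,3,6,0,6,2,1,6,1,3,3,4,0,6,1,6,0,0,6,0,2,1,4,0,2,4,1,4,2,2,0,6,0,3,6,1,6,2,1,2,4,6,4,1,2,6,3,0,4,3,0,2,2,0,6,0,3,6,1,6,2,1,2,4,6,4,1,2,6,3,0,4,3,0,4,0,4,3,1,4,0,3,1,6,1,1,6,0,6,1],[0,6,2,4,6,4,1,2,6,3,0,4,3,0,4,0,4,3,1,4,0,3,1,6,1,1,6,0,6,1,4,2,2,0,6,0,3,6,1,6,2,1,2,4,6,4,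1,2,6,3,0,4,3,0,4,0,6,0,3,6,0,6,2,1,6,1,3,3,4,0,6,0,3,6,0,6,2,1,6,1,3,3,4,0,6,1,6,0,0,6,0,2,1,4,0,2,4,1],[4,2,2,0,6,0,3,6,1,6,2,1,2,4,6,4,1,2,6,3,0,4,3,0,4,2,1,4,0,6,4,6,1,4,0,3,0,6,0,3,6,0,6,2,1,6,1,3,3,4,0,6,1,6,0,0,6,0,2,1,4,0,2,4,6,0,3,6,0,6,2,1,6,1,3,3,4],[4,2,2,0,6,0,3,6,1,6,2,1,2,4,6,4,1,2,6,3,0,4,3,0,4,2,1,4,0,6,4,6,1,4,0,3,0,6,0,3,6,0,6,2,1,6,1,3,3,4,0,6,1,6,0,0,6,0,2,1,4,0,2,4,6,0,3,6,0,6,2,1,6,1,3,3,4,2,1,4,0,6,4,6,1,4,0,3],[4,2,2,0,6,0,3,6,1,6,2,1,2,4,6,4,1,2,6,3,0,4,3,0,4,2,1,4,0,6,4,6,1,4,0,3,0,6,0,3,6,0,6,2,1,6,1,3,3,4,0,6,1,6,0,0,6,0,2,1,4,0,2,4,6,0,3,6,0,6,2,1,6,1,3,3,4,0,4,3,1,4,0,3,1,6,1,1,6,0,6,1],[4,2,2,0,6,0,3,6,1,6,2,1,2,4,6,4,1,2,6,3,0,4,3,0,4,2,1,4,0,6,4,6,1,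4,0,3,0,6,0,3,6,0,6,2,1,6,1,3,3,4,0,6,1,6,0,0,6,0,2,1,4,0,2,4,6,0,3,6,0,6,2,1,6,1,3,3,4,0,6,1,6,0,0,6,0,2,1,4,0,2,4,1],[0,6,0,3,6,0,6,2,1,6,1,3,3,1,2,4,1,2,6,3,0,4,6,4,3,6,1,4,2,2,0,6,0,3,6,1,6,2,1,6,1,2,1,4,0,6,4,6,1,4,0,3,0,6,2,4,6,4,1,2,6,3,0,4,3,0,2,2,0,6,0,3,6,1,6,2,1,6,1,2,1,4,0,6,4,6,1,4,0,3],[0,6,0,3,6,0,6,2,1,6,1,3,3,1,2,4,1,2,6,3,0,4,6,4,3,6,1,4,2,2,0,6,0,3,6,1,6,2,1,6,1,2,1,4,0,6,4,6,1,4,0,3,0,6,2,4,6,4,1,2,6,3,0,4,3,0,2,2,0,6,0,3,6,1,6,2,1,6,4,3,1,4,0,3,1,6,1,1,6,0,6,1],[4,1,2,4,1,2,6,3,0,4,6,4,3,6,1,2,1,4,0,6,4,6,1,4,0,3,4,2,2,0,6,0,3,6,1,6,2,1,6,1,4,1,2,4,1,2,6,3,0,4,6,4,3,6,1,4,2,2,0,6,0,3,6,1,6,2,1,2,4,6,4,1,2,6,3,0,4,3,0,4,0,6,1,6,0,0,6,0,2,1,4,0,2,4,1],[4,1,2,4,1,2,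6,3,0,4,6,4,3,6,1,2,1,4,0,6,4,6,1,4,0,3,4,2,2,0,6,0,3,6,1,6,2,1,6,1,4,1,2,4,1,2,6,3,0,4,6,4,3,6,1,4,2,2,0,6,0,3,6,1,6,2,1,2,4,6,4,1,2,6,3,0,4,3,0,4,2,1,4,0,6,4,6,1,4,0,3],[4,1,2,4,1,2,6,3,0,4,6,4,3,6,4,3,1,4,0,3,1,6,1,1,6,0,0,3,6,0,6,2,1,6,1,3,3,4,0,6,0,3,6,0,6,2,1,6,1,3,3,4,2,1,4,0,6,4,6,1,4,0,3,0,6,2,4,6,4,1,2,6,3,0,4,3,0,4],[4,1,2,4,1,2,6,3,0,4,6,4,3,6,4,3,1,4,0,3,1,6,1,1,6,0,0,3,6,0,6,2,1,6,1,3,3,4,0,6,0,3,6,0,6,2,1,6,1,3,3,4,2,1,4,0,6,4,6,1,4,0,3,0,6,2,4,6,4,1,2,6,3,0,4,3,0,4,2,1,4,0,6,4,6,1,4,0,3],[4,1,2,4,1,2,6,3,0,4,6,4,3,6,4,3,1,4,0,3,1,6,1,1,6,0,0,3,6,0,6,2,1,6,1,3,3,4,0,6,0,3,6,0,6,2,1,6,1,3,3,4,0,6,1,6,0,0,6,0,2,1,4,0,2,4,1,4,1,2,4,1,2,6,3,0,4,6,4,3,6,1],[4,1,2,4,1,2,6,3,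0,4,6,4,3,6,4,3,1,4,0,3,1,6,1,1,6,0,0,3,6,0,6,2,1,6,1,3,3,4,0,6,0,3,6,0,6,2,1,6,1,3,3,4,0,6,1,6,0,0,6,0,2,1,4,0,2,4,1,4,1,2,4,1,2,6,3,0,4,6,4,3,6,1,2,1,4,0,6,4,6,1,4,0,3],[0,6,0,3,6,0,6,2,1,6,1,3,3,4,0,6,2,4,6,4,1,2,6,3,0,4,3,0,4,0,4,3,1,4,0,3,1,6,1,1,6,0,6,1,4,2,2,0,6,0,3,6,1,6,2,1,6,1,4,1,2,4,1,2,6,3,0,4,6,4,3,6,1],[0,6,0,3,6,0,6,2,1,6,1,3,3,4,0,6,2,4,6,4,1,2,6,3,0,4,3,0,4,0,4,3,1,4,0,3,1,6,1,1,6,0,6,1,4,2,2,0,6,0,3,6,1,6,2,1,6,1,4,1,2,4,1,2,6,3,0,4,6,4,3,6,1,2,1,4,0,6,4,6,1,4,0,3],[0,6,0,3,6,0,6,2,1,6,1,3,3,4,0,6,2,4,6,4,1,2,6,3,0,4,3,0,4,0,4,3,1,4,0,3,1,6,1,1,6,0,6,1,4,2,2,0,6,0,3,6,1,6,2,1,6,1,4,1,2,4,1,2,6,3,0,4,6,4,3,1,6,0,0,6,0,2,1,4,0,2,4,1],[0,6,0,3,6,0,6,2,1,6,1,3,3,4,0,6,2,4,6,4,1,2,6,3,0,4,3,0,4,0,4,3,1,4,0,3,1,6,1,1,6,0,6,1,4,2,2,0,6,0,3,6,1,6,2,1,6,1,4,1,2,4,1,2,6,3,0,4,6,4,3,6,4,3,1,4,0,3,1,6,1,1,6,0,6,1]]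
theorem hz : ∀ c : Cfsg.Spor.McL, (∀ i, c * wprod g (wordAt [substW SW zv] i) = wprod g (wordAt [substW SW zv] i) * c) →
    ∃ κ ∈ genW g SW, ∃ u ∈ hzU, c = κ * wprod g u :=
  M0.srch czL _ _ [[0]] _ _ 1 9 czZ hzT (by decide +kernel) (by decide +kernel)
theorem fus0 : FusG Cfsg.Spor.McL :=
  M0.fus SW RV [] hzU zv [0,0] 7 3
    [[[6,4,6,2],[0],[3,0]], [[6,0,0],[0],[4,4,3,1]], [[1,2,6,2],[4,0],[0,4,4,0]], [[3,0,4,6],[4,2,0],[2,0]], [[6,1,2,6,3],[2,6,0],[3,4,2,2]], [[2,2,1,6,4],[10,4],[3,4,2,2,0]], [[],[2,0],[0]], [[],[6,1],[2]], [[],[12,10,4],[4]]]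
    [[[0],[3,0,0],[1,4,0]], [[3,3,0],[2],[1,5,0]], [[3,3,0],[3,4,4],[4]]]
    [[[0],[]], [[1,1],[1],[0]], [[1,1],[5,3,0],[4]], [[1,1],[5,0],[2]], [[1,1],[5,0],[2]], [[1,1],[4,1],[2]], [[1,1],[0],[0]], [[1,1],[3,1],[4]], [[1,1],[3,1],[4]], [[1,1],[0],[0]], [[1,1],[0],[0]], [[1,1],[5,2,0],[4]], [[1,1],[1],[4,0]], [[1,1],[4],[0]], [[1,1],[4,0],[0]], [[1,1],[5,1],[0]], [[1,1],[1],[0]], [[1,1],[1],[0]], [[1,1],[4],[4]], [[1,1],[4],[4]], [[1,1],[5],[4]], [[1,1],[1],[4]], [[1,1],[1],[4]], [[1,1],[0],[4]], [[1,1],[0],[4]], [[1,1],[5],[0]], [[1,1],[1],[0]], [[1,1],[0],[0]], [[1,1],[5,3],[4]], [[1,1],[4],[0]], [[1,1],[0],[0]], [[1,1],[3,3],[0]], [[1,1],[3],[2]], [[1,1],[1],[5,0]], [[1,1],[5,0],[0]],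 [[1,1],[4,4],[4]], [[1,1],[4,4],[4]], [[1,1],[4],[2,0]], [[1,1],[4],[0]], [[1,1],[5],[2]], [[1,1],[5],[2]], [[1,1],[4,3],[4]], [[1,1],[4,3],[4]], [[1,1],[4,1],[4]], [[1,1],[5],[2]], [[1,1],[5,1],[3,0]], [[1,1],[1],[0]], [[1,1],[1],[0]], [[1,1],[0],[2]], [[1,1],[1],[4]], [[1,1],[1],[4]], [[1,1],[0],[4]], [[1,1],[0],[4]], [[1,1],[0],[0]], [[1,1],[5,0],[0]], [[1,1],[0],[2]], [[1,1],[0],[0]], [[1,1],[5,2],[4]], [[1,1],[5,2],[4]], [[1,1],[4,4],[4]], [[1,1],[4,4],[4]], [[1,1],[5,3],[4]], [[1,1],[1],[0]], [[1,1],[4],[2]], [[1,1],[1],[0]], [[1,1],[1],[0]], [[1,1],[5],[2]], [[1,1],[5],[4]], [[1,1],[5],[4]], [[1,1],[4],[4]], [[1,1],[4],[4]], [[1,1],[1],[0]], [[1,1],[1],[0]], [[1,1],[5],[0]], [[1,1],[2],[0]],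 [[1,1],[4],[4]], [[1,1],[4],[4]], [[1,1],[5,3],[4]], [[1,1],[5,3],[4]], [[1,1],[4,2],[4]], [[1,1],[3],[0]], [[1,1],[5,2],[4]], [[1,1],[1],[0]], [[1,1],[0,5],[4]], [[1,1],[0],[0]], [[1,1],[5,3],[4]], [[1,1],[5,3],[4]], [[1,1],[4],[0]], [[1,1],[0],[0]], [[1,1],[4],[5,0]], [[1,1],[5,0],[0]], [[1,1],[1],[0]], [[1,1],[5],[0]], [[1,1],[0],[0]], [[1,1],[1],[0]], [[1,1],[4,0,0],[4]], [[1,1],[1],[0]], [[1,1],[4],[4]], [[1,1],[4],[4]], [[1,1],[1,5],[4]], [[1,1],[1,5],[4]], [[1,1],[1],[0]], [[1,1],[5],[2]], [[1,1],[5],[0]], [[1,1],[0],[0]], [[1,1],[4,2],[4]], [[1,1],[4,2],[4]], [[1,1],[1],[4]], [[1,1],[1],[4]], [[1,1],[0],[4]], [[1,1],[0],[4]], [[1,1],[4],[0]], [[1,1],[4],[5,0]], [[1,1],[5],[4,0]],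 [[1,1],[3,1],[4]], [[1,1],[4,1],[4]], [[1,1],[4,1],[4]], [[1,1],[4,0],[4]], [[1,1],[1],[0]], [[1,1],[1],[0]], [[1,1],[0],[0]], [[1,1],[0],[0]], [[1,1],[1],[0]], [[1,1],[1],[0]], [[1,1],[1],[0]], [[1,1],[2],[4]], [[1,1],[4],[2]], [[1,1],[5,2],[4]], [[1,1],[4],[0]], [[1,1],[0],[0]], [[1,1],[0,5],[4]], [[1,1],[4,0],[4]], [[1,1],[5,0],[4]], [[1,1],[4],[2]], [[1,1],[1],[0]], [[1,1],[4,2],[4]], [[1,1],[4,2],[4]], [[1,1],[3],[2]], [[1,1],[4],[0]], [[1,1],[1,5],[4]], [[1,1],[1,5],[4]], [[1,1],[5],[0]], [[1,1],[3],[0]], [[1,1],[4,0],[4]], [[1,1],[0],[2]], [[1,1],[4,0],[4]], [[1,1],[1],[0]], [[1,1],[4,0],[4]], [[1,1],[0],[2]], [[1,1],[4],[0]], [[1,1],[1],[2]], [[1,1],[5],[4]], [[1,1],[5],[4]],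 [[1,1],[0],[0]], [[1,1],[5,0],[4]], [[1,1],[1],[0]], [[1,1],[0],[0]], [[1,1],[1],[0]], [[1,1],[0],[0]], [[1,1],[4],[4]], [[1,1],[0,4],[2]], [[1,1],[4,4],[2]], [[1,1],[5],[2]], [[1,1],[4,2],[4]], [[1,1],[4],[2]], [[1,1],[2],[4]], [[1,1],[1,4],[2]], [[1,1],[1],[4]], [[1,1],[5,0],[2]], [[1,1],[5],[4,0]], [[1,1],[0],[0]], [[1,1],[3],[0]], [[1,1],[4],[0]], [[1,1],[4],[0]], [[1,1],[5,2],[0]], [[1,1],[0],[0]], [[1,1],[0],[0]], [[1,1],[0],[0]], [[1,1],[0],[0]], [[1,1],[0],[0]], [[1,1],[0,4],[4]], [[1,1],[0,4],[4]], [[1,1],[0],[0]], [[1,1],[4,4],[4]], [[1,1],[3,1],[4]], [[1,1],[5],[4]], [[1,1],[5],[4,0]], [[1,1],[3,0],[4]], [[1,1],[5],[0]], [[1,1],[0],[0]], [[1,1],[0,4],[4]], [[1,1],[0,4],[4]],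 [[1,1],[5],[0]], [[1,1],[0],[0]], [[1,1],[2],[0]], [[1,1],[5],[5,0]], [[1,1],[1],[0]], [[1,1],[4],[4,0]], [[1,1],[5],[4]], [[1,1],[5],[4]], [[1,1],[4],[4]], [[1,1],[4],[4]], [[1,1],[1],[0]], [[1,1],[3,1],[4]], [[1,1],[0],[0]], [[1,1],[1],[2]], [[1,1],[0],[0]], [[1,1],[3,4],[4]], [[1,1],[4,0],[0]], [[1,1],[4,1],[0]], [[1,1],[1],[4]], [[1,1],[0],[4]], [[1,1],[5],[4]], [[1,1],[5],[4]], [[1,1],[4],[2]], [[1,1],[4],[2]], [[1,1],[5,1],[4]], [[1,1],[0],[0]], [[1,1],[5,0],[4]], [[1,1],[5,0],[4]], [[1,1],[4],[4]], [[1,1],[4],[4]], [[1,1],[5],[5,0]], [[1,1],[0],[0]], [[1,1],[1],[0]], [[1,1],[1],[0]], [[1,1],[4],[4,0]], [[1,1],[4],[4,0]], [[1,1],[0],[0]], [[1,1],[4],[4]], [[1,1],[5],[4]], [[1,1],[5],[4]],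 [[1,1],[4],[4]], [[1,1],[1],[4]], [[1,1],[1],[4]], [[1,1],[0],[4]], [[1,1],[0],[4]], [[1,1],[3],[4]], [[1,1],[4,1],[4]], [[1,1],[3],[4]], [[1,1],[3],[4]], [[1,1],[4,4],[4]], [[1,1],[4,4],[4]], [[1,1],[0],[0]], [[1,1],[0],[0]], [[1,1],[1],[0]], [[1,1],[5,0],[4]], [[1,1],[5,0],[4]], [[1,1],[4],[4]], [[1,1],[4],[4]], [[1,1],[4,1],[4]], [[1,1],[2],[2]], [[1,1],[1],[0]], [[1,1],[1],[0]], [[1,1],[0],[0]], [[1,1],[0],[0]], [[1,1],[2],[2]], [[1,1],[4,3,0],[4]], [[1,1],[5,3],[4]], [[1,1],[5,3],[4]], [[1,1],[5,2],[0]], [[1,1],[4,4],[4]], [[1,1],[4,3],[4]], [[1,1],[4,4],[4]], [[1,1],[4,4],[4]], [[1,1],[4,3],[4]], [[1,1],[4,3],[4]], [[1,1],[5],[0]], [[1,1],[4],[0]], [[1,1],[0],[0]], [[1,1],[1],[2]],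 [[1,1],[0],[0]], [[1,1],[4,3,0],[4]], [[1,1],[3,3],[0]], [[1,1],[4,1],[0]], [[1,1],[0],[5,0]], [[1,1],[2],[2]], [[1,1],[5],[4,0]], [[1,1],[2,0],[4]], [[1,1],[2,1],[4]], [[1,1],[2],[0]], [[1,1],[4],[0]], [[1,1],[2],[0]], [[1,1],[2,1],[4]], [[1,1],[2,0],[4]], [[1,1],[2,0],[4]], [[1,1],[4,0],[4]], [[1,1],[4,0],[4]], [[1,1],[0],[0]], [[1,1],[1],[0]], [[1,1],[1],[4]], [[1,1],[0],[4]], [[1,1],[4,4],[4]], [[1,1],[4,3],[4]], [[1,1],[2,2],[0]], [[1,1],[0],[0]], [[1,1],[5],[4]], [[1,1],[5],[4]], [[1,1],[5],[0]], [[1,1],[4,4],[2,0]], [[1,1],[4,0],[0]], [[1,1],[5,3],[4]], [[1,1],[5,3],[4]], [[1,1],[2],[4]], [[1,1],[5,0],[0]], [[1,1],[0],[0]], [[1,1],[5,1],[4]], [[1,1],[1],[0]], [[1,1],[1],[0]],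 [[1,1],[1],[0]], [[1,1],[1],[0]], [[1,1],[0],[0]], [[1,1],[1,4],[4]], [[1,1],[0,4],[4]], [[1,1],[0,4],[4]]]
    hS (by norm_num) hr hz (by decide +kernel) (by decide +kernel) (by decide +kernel)

end CfsgH7.McL.Fu

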