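import Cfsg.Agent.H7.Fu.Math

/-! Self-normalising Sylow 2-subgroup of M24. -/

set_option autoImplicit false
set_option maxRecDepth 100000

namespace CfsgH7

open Cfsg Subgroup

universe u

section
variable {G : Type*} [Group G]

def SNG (G : Type*) [Group G] : Prop :=
  Finite G ∧ ∃ (T : Subgroup G) (k : Nat), Nat.card T = 2 ^ k ∧ ¬ 2 ^ (k + 1) ∣ Nat.card G ∧
    normalizer (T : Set G) ≤ T

theorem sn_map {H : Type*} [Group H] {T : Subgroup G} (h : normalizer (T : Set G) ≤ T) (e : G ≃* H) :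
    normalizer ((T.map e.toMonoidHom : Subgroup H) : Set H) ≤ T.map e.toMonoidHom := by
  have hi : Function.Injective e.toMonoidHom := e.injective
  have mem : ∀ (x : G), e x ∈ T.map e.toMonoidHom ↔ x ∈ T := fun x => mem_map_iff_mem hi
  intro y hy
  obtain ⟨x, rfl⟩ := e.surjective y
  refine (mem x).2 (h ?_)
  rw [mem_normalizer_iff] at hy ⊢
  intro y
  rw [← mem, hy, ← mem (x * y * x⁻¹), map_mul, map_mul, map_inv]

theorem SNG.congr {H : Type*} [Group H] (h : SNG G) (e : G ≃* H) : SNG H := by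
  obtain ⟨_, T, k, h1, h2, h3⟩ := h
  exact ⟨Finite.of_equiv _ e.toEquiv, _, k, by rw [← h1]; exact card_map_of_injective e.injective,
    Nat.card_congr e.toEquiv ▸ h2, sn_map h3 e⟩

theorem SNG.syl (h : SNG G) (S : Sylow 2 G) : normalizer ((S : Subgroup G) : Set G) = (S : Subgroup G) := by
  obtain ⟨_, T, k, h1, h2, h3⟩ := h
  have h4 : ¬ 2 ∣ T.index := fun h => h2 (by
    rw [← T.card_mul_index, h1, pow_succ]; exact Nat.mul_dvd_mul_left _ h)
  obtain ⟨c, rfl⟩ := MulAction.exists_smul_eq G ((IsPGroup.of_card h1).toSylow h4) S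
  exact le_antisymm (sn_map h3 (MulAut.conj c)) le_normalizer

end

variable {G : Type u} [Group G] {Ω : Type*} [MulAction G Ω]
variable {pt : Nat → Ω} {n : Nat} {g : Nat → G} {l : List Net} {k N : Nat} {bs : List Nat}

theorem Md.sng (M : Md pt n g l k N bs) (SW RV TL : List (List Nat)) (zv : List Nat) (m : Nat)
    (DL : List (List (List Nat))) (hS : Nat.card (genW g SW) = 2 ^ m) (hN : ¬ 2 ^ (m + 1) ∣ N)
    (hR : centralizer {x | ∃ w ∈ RV.map (substW SW), wprod g w = x} = genW g [substW SW zv])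
    (hZ : ∀ c : G, (∀ i, c * wprod g (wordAt [substW SW zv] i) = wprod g (wordAt [substW SW zv] i) * c) →
      ∃ κ ∈ genW g SW, ∃ u ∈ TL, c = κ * wprod g u)
    (h1 : band (fixesP l (powA (substW SW zv) 2 []) bs) (Bool.not (fixesP l (substW SW zv) bs)) = true)
    (h3 : nall (fun j => repOk l bs SW SW (wordAt TL j) (DL.getD j [])) TL.length = true) : SNG G := by
  have := M.fin
  simp only [band_iff] at h1
  obtain ⟨a1, a2⟩ := h1
  have hp : IsPGroup 2 (genW g SW) := IsPGroup.of_card hS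
  have hle : genW g (RV.map (substW SW)) ≤ genW g SW := genW_le.2 fun w hw => by
    obtain ⟨u, _, rfl⟩ := List.mem_map.1 hw; exact substW_mem_genW g SW u
  have hR' : centralizer (genW g (RV.map (substW SW)) : Set G) = genW g [substW SW zv] := by
    rw [← hR, genW, centralizer_closure]
  have hz : ∀ y ∈ centralizer (genW g SW : Set G), y ≠ 1 → y = wprod g (substW SW zv) := fun y hy h => by
    have : y ∈ genW g [substW SW zv] := hR' ▸ centralizer_le hle hy
    rw [genW_single] at this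
    obtain ⟨i, hi, rfl⟩ := zpow_nat (by norm_num) (M.pow a1) this
    interval_cases i
    · exact absurd (pow_zero _) h
    · exact pow_one _
  have hzS : wprod g (substW SW zv) ∈ genW g SW := substW_mem_genW g SW zv
  refine ⟨this, genW g SW, m, hS, M.card ▸ hN, fun c hc => ?_⟩
  obtain ⟨z, -, b2, b3⟩ := exists_central hp le_rfl (fun x hx c hc => mul_mem (mul_mem hc hx) (inv_mem hc))
    fun h => M.neP a2 (mem_bot.1 (h ▸ hzS))
  have b4 := hz z b3 b2
  have b5 : c * z * c⁻¹ = z := by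
    rw [b4]
    refine hz _ (fun y hy => ?_) (by rw [← b4]; simpa using b2)
    have := b3 _ ((mem_normalizer_iff.1 (inv_mem hc) y).1 hy)
    rw [← b4]
    calc y * (c * z * c⁻¹) = c * (c⁻¹ * y * c⁻¹⁻¹ * z) * c⁻¹ := by group
      _ = c * z * c⁻¹ * y := by rw [this]; group
  obtain ⟨κ, hκ, u, hu, rfl⟩ := hZ c fun i => by
    cases i with
    | zero => exact b4 ▸ mul_inv_eq_iff_eq_mul.1 b5
    | succ i => exact (mul_one _).trans (one_mul _).symm
  refine mul_mem hκ ?_
  have hu' : wprod g u ∈ normalizer (genW g SW : Set G) := by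
    simpa using mul_mem (inv_mem (le_normalizer hκ)) hc
  obtain ⟨j, hj, rfl⟩ := exists_wordAt hu
  have h4 := nall_iff.1 h3 j hj
  unfold repOk at h4
  generalize nth (wordAt (DL.getD j []) 0) 0 = q at h4
  cases q with
  | zero => exact M.eq h4 ▸ substW_mem_genW g _ _
  | succ q =>
    exfalso
    have h5 := (forceL_eq _ _).symm.trans h4
    obtain ⟨c1, c2⟩ := band_iff.1 h5
    generalize hx : powA _ (nth (wordAt (DL.getD j []) 0) 1) [] = x at c1 c2
    have hm : wprod g x ∈ genW g SW := by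
      rw [← hx, wprod_powA, wprod_nil, mul_one, wprod_app, wprod_app, wprod_app, wprod_rinv, wprod_nil, mul_one,
        ← mul_assoc (wprod g (wordAt TL j))]
      exact pow_mem (mul_mem (substW_mem_genW g _ _) ((mem_normalizer_iff.1 hu' _).1 (substW_mem_genW g _ _))) _
    obtain ⟨r, hr⟩ := hp ⟨_, hm⟩
    have d1 := orderOf_dvd_of_pow_eq_one (M.pow c2)
    have d2 := orderOf_dvd_of_pow_eq_one (show wprod g x ^ 2 ^ r = 1 from congrArg Subtype.val hr)
    exact M.neP c1 (orderOf_eq_one_iff.1 (Nat.eq_one_of_dvd_coprimes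
      (Nat.Coprime.pow_right r ((Nat.coprime_two_right).2 ⟨q + 1, by ring⟩)) d1 d2))


end CfsgH7

namespace CfsgH7.M24.Fu

open CfsgH7.M24

theorem sng0 : SNG G0 :=
  M0.sng SW RV hzU zv 10
    [[[0],[]], [[1,1],[2],[0]], [[1,1],[0],[0]], [[1,1],[6],[6]], [[1,1],[0],[0]], [[1,1],[0],[0]], [[1,1],[0],[0]], [[1,1],[2],[6]], [[1,1],[2],[2]], [[1,1],[6],[6]], [[1,1],[0],[0]], [[1,1],[0],[0]], [[1,1],[4,2],[6]], [[1,1],[2],[0]], [[1,1],[6],[6]], [[1,1],[3],[2]], [[1,1],[7,3],[2]], [[1,1],[6],[0]], [[1,1],[3,0],[2]], [[1,1],[6],[0]], [[1,1],[2],[6]]]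
    hS (by norm_num) hr hz (by decide +kernel) (by decide +kernel)

theorem sng : SNG Cfsg.M24 := (iso CfsgH7.Gol.mdl24).elim sng0.congr

end CfsgH7.M24.Fu
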